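import Cfsg.Agent.Lib.E6Iso.Gen
import Cfsg.Agent.Lib.ChevCover.Instance
import Cfsg.Agent.Lib.ChevStr.InstanceTables

/-!
The group of the cubic form modulo its centre is the Chevalley group of type E6.
-/

set_option autoImplicit false

namespace CfsgLib.E6Iso

open Matrix Cfsg.Lie

variable {F : Type*} [Field F]

theorem not_comm : X 0 (1 : F) * X (ng 0) 1 ≠ X (ng 0) 1 * X 0 1 := by
  intro h
  have h1 := congrArg (fun g => col g 6 6) h
  simp only [col_mul] at h1
  obtain ⟨-, hd, hs, hd'⟩ := pairB ⟨0, by decide⟩ (0, 6, 1) (by decide +kernel)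
  have m1 : ∀ w : Fin 27 → F, mv 0 w 6 = w 0 := fun w => by rw [mv_apply, hd]; simp
  have m2 : ∀ w : Fin 27 → F, mv (ng 0) w 0 = w 6 := fun w => by rw [mv_apply, hs]; simp
  have m3 : ∀ w : Fin 27 → F, mv (ng 0) w 6 = 0 := fun w => by rw [mv_apply, hd']; rfl
  simp only [col, X_mulVec_apply, m1, m2, m3] at h1
  simp at h1

/-- The renumbering of the coordinates, on invertible matrices. -/
def reGL : GL (Fin 27) F ≃* GL I27 F :=
  Units.mapEquiv (Matrix.reindexAlgEquiv F F code.symm).toMulEquiv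

theorem reGL_mem (g : GL (Fin 27) F) : reGL g ∈ E6univ F ↔ g ∈ stab27 F := by
  have key : ∀ w : I27 → F, cubicT ((reGL g : Matrix I27 I27 F) *ᵥ w) =
      T27 ((g : Matrix (Fin 27) (Fin 27) F) *ᵥ fun k => w (code.symm k)) := by
    intro w
    rw [cubicT_eq]
    congr 1
    funext k
    show (((g : Matrix (Fin 27) (Fin 27) F).submatrix code code) *ᵥ w) (code.symm k) = _
    rw [Matrix.submatrix_mulVec_equiv, Function.comp_apply, Equiv.apply_symm_apply]
    rfl
  constructor
  · intro h v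
    have h1 := h fun p => v (code p)
    change cubicT ((reGL g : Matrix I27 I27 F) *ᵥ _) = _ at h1
    rw [key, cubicT_eq] at h1
    simp only [Equiv.apply_symm_apply] at h1
    exact h1
  · intro h w
    show cubicT ((reGL g : Matrix I27 I27 F) *ᵥ w) = _
    rw [key, cubicT_eq]
    exact T27_act h _

/-- The renumbering on the isometry groups. -/
def reStab : stab27 F ≃* E6univ F where
  toFun g := ⟨reGL g.1, (reGL_mem g.1).2 g.2⟩
  invFun g := ⟨reGL.symm g.1, (reGL_mem _).1 (by rw [MulEquiv.apply_symm_apply]; exact g.2)⟩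
  left_inv g := Subtype.ext (reGL.symm_apply_apply g.1)
  right_inv g := Subtype.ext (reGL.apply_symm_apply g.1)
  map_mul' g h := Subtype.ext (map_mul reGL g.1 h.1)

theorem nonempty_equiv (hF : ∃ c : F, c ≠ 0 ∧ c ≠ 1)
    (hsimple : IsSimpleGroup ↥(chevE6.group F)) : Nonempty (E6 F ≃* ↥(chevE6.group F)) := by
  classical
  let C := CfsgLib.ChevStr.coreE6 F
  have hrange : (hom F).range = stab27 F := hom_range hF
  let ψ : chevE6.SteinbergCover F →* E6univ F :=
    reStab.toMonoidHom.comp ((hom F).codRestrict _ fun g => hrange ▸ ⟨g, rfl⟩)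
  have hψ : Function.Surjective ψ := fun y => by
    have hy : (reStab.symm y).1 ∈ (hom F).range := hrange.symm ▸ (reStab.symm y).2
    obtain ⟨g, hg⟩ := hy
    exact ⟨g, by
      show reStab ⟨hom F g, _⟩ = y
      rw [show (⟨hom F g, _⟩ : stab27 F) = reStab.symm y from Subtype.ext hg, MulEquiv.apply_symm_apply]⟩
  let π : chevE6.SteinbergCover F →* E6 F :=
    (QuotientGroup.mk' (Subgroup.center (E6univ F))).comp ψ
  have hπ : Function.Surjective π := (QuotientGroup.mk'_surjective _).comp hψ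
  have hker : (CfsgLib.ChevCover.coverHom C).ker ≤ π.ker := by
    intro z hz
    have hzc := CfsgLib.ChevCover.coverHom_ker_le_center C
      (CfsgLib.ChevCover.hasNeighbours (by simp)) hz
    refine (QuotientGroup.eq_one_iff _).2 (Subgroup.mem_center_iff.2 fun y => ?_)
    obtain ⟨g, rfl⟩ := hψ y
    rw [← map_mul, ← map_mul, Subgroup.mem_center_iff.1 hzc g]
  let φ : ↥(chevE6.group F) →* E6 F :=
    (MonoidHom.liftOfSurjective (CfsgLib.ChevCover.coverHom C)
      (CfsgLib.ChevCover.coverHom_surjective C)) ⟨π, hker⟩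
  have hφ : ∀ g, φ (CfsgLib.ChevCover.coverHom C g) = π g := fun g =>
    MonoidHom.liftOfRightInverse_comp_apply _ _ _ ⟨π, hker⟩ g
  have hsurj : Function.Surjective φ := fun y => by
    obtain ⟨g, rfl⟩ := hπ y
    exact ⟨_, hφ g⟩
  have hnt : φ.ker ≠ ⊤ := by
    intro htop
    have hcomm : ∀ a b : E6univ F, a * b = b * a := by
      intro a b
      obtain ⟨g, rfl⟩ := hψ b
      have h1 : π g = 1 := by
        rw [← hφ g]; exact MonoidHom.mem_ker.1 (htop ▸ Subgroup.mem_top _)
      exact Subgroup.mem_center_iff.1 ((QuotientGroup.eq_one_iff _).1 h1) a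
    refine not_comm (F := F) (reGL.injective ?_)
    rw [map_mul, map_mul]
    exact congrArg Subtype.val (hcomm ⟨_, (reGL_mem _).2 (X_mem _ _)⟩ ⟨_, (reGL_mem _).2 (X_mem _ _)⟩)
  have hinj : Function.Injective φ :=
    (MonoidHom.ker_eq_bot_iff φ).1 ((hsimple.eq_bot_or_eq_top_of_normal _ inferInstance).resolve_right hnt)
  exact ⟨(MulEquiv.ofBijective φ ⟨hinj, hsurj⟩).symm⟩

end CfsgLib.E6Iso
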