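import Cfsg.Agent.Lib.E6Iso.Tables

/-!
The cubic form in the coordinates `Fin 27`: its polarisations and their invariance under isometries
over a field with a third element.
-/

set_option autoImplicit false

namespace CfsgLib.E6Iso

open Matrix

/-- Numbering of the 27 coordinates. -/
def code : Cfsg.Lie.I27 ≃ Fin 27 where
  toFun p := ⟨9 * p.1.val + 3 * p.2.1.val + p.2.2.val, by omega⟩
  invFun k := (⟨k.val / 9, by omega⟩, ⟨k.val / 3 % 3, by omega⟩, ⟨k.val % 3, by omega⟩)
  left_inv := by
    rintro ⟨⟨a, ha⟩, ⟨b, hb⟩, ⟨c, hc⟩⟩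
    simp only [Prod.mk.injEq, Fin.mk.injEq]
    omega
  right_inv k := by ext; simp only []; omega

variable {F : Type*} [Field F]

/-- Sum of a quantity over signed monomials. -/
def triSum (l : List Tri) (f : Fin 27 → Fin 27 → Fin 27 → F) : F :=
  (l.map fun q => (q.2.2.2 : F) * f q.1 q.2.1 q.2.2.1).sum

/-- The cubic form. -/
def T27 (v : Fin 27 → F) : F := triSum triads fun a b c => v a * v b * v c

theorem cubicT_eq (w : Cfsg.Lie.I27 → F) : Cfsg.Lie.cubicT w = T27 fun k => w (code.symm k) := by
  simp [Cfsg.Lie.cubicT, Cfsg.Lie.mat3, T27, triSum, triads, code, Matrix.det_fin_three, Matrix.trace,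
    Matrix.mul_apply, Fin.sum_univ_three]
  ring

/-- All rotations of the monomials. -/
def cyc : List Tri :=
  triads.flatMap fun q => [(q.1, q.2.1, q.2.2.1, q.2.2.2), (q.2.1, q.2.2.1, q.1, q.2.2.2),
    (q.2.2.1, q.1, q.2.1, q.2.2.2)]

/-- All orders of the monomials. -/
def perms : List Tri := cyc ++ cyc.map fun q => (q.2.1, q.1, q.2.2.1, q.2.2.2)

/-- Quadratic in the first argument, linear in the second. -/
def A (v y : Fin 27 → F) : F := triSum cyc fun a b c => v a * v b * y c

/-- The trilinear form. -/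
def Φ (u w y : Fin 27 → F) : F := triSum perms fun a b c => u a * w b * y c

theorem triSum_add (l : List Tri) (f g : Fin 27 → Fin 27 → Fin 27 → F) :
    triSum l (fun a b c => f a b c + g a b c) = triSum l f + triSum l g := by
  induction l with
  | nil => simp [triSum]
  | cons q l ih => simp only [triSum, List.map_cons, List.sum_cons] at ih ⊢; rw [ih]; ring

theorem T27_expand (v y : Fin 27 → F) (t : F) :
    T27 (v + t • y) = T27 v + t * A v y + t ^ 2 * A y v + t ^ 3 * T27 y := by
  simp only [T27, A, cyc, triSum]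
  induction triads with
  | nil => simp
  | cons q l ih =>
    simp only [List.map_cons, List.sum_cons, List.flatMap_cons, List.map_append, List.sum_append,
      List.map_nil, List.sum_nil, add_zero]
    rw [ih]
    simp only [Pi.add_apply, Pi.smul_apply, smul_eq_mul]
    ring

theorem A_expand (u w y : Fin 27 → F) : A (u + w) y = A u y + A w y + Φ u w y := by
  simp only [Φ, A, perms, triSum]
  induction cyc with
  | nil => simp
  | cons q l ih =>
    simp only [List.map_cons, List.sum_cons, List.map_append, List.sum_append] at ih ⊢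
    rw [ih]
    simp only [Pi.add_apply]
    ring

/-- The isometry group in the new coordinates. -/
def stab27 (F : Type*) [Field F] : Subgroup (GL (Fin 27) F) := Cfsg.Lie.funStab F T27

theorem T27_act {g : GL (Fin 27) F} (hg : g ∈ stab27 F) (v : Fin 27 → F) :
    T27 ((g : Matrix (Fin 27) (Fin 27) F) *ᵥ v) = T27 v := hg v

theorem A_act (hF : ∃ c : F, c ≠ 0 ∧ c ≠ 1) {g : GL (Fin 27) F} (hg : g ∈ stab27 F)
    (v y : Fin 27 → F) :
    A ((g : Matrix (Fin 27) (Fin 27) F) *ᵥ v) ((g : Matrix (Fin 27) (Fin 27) F) *ᵥ y) = A v y := by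
  obtain ⟨c, hc0, hc1⟩ := hF
  set v' := (g : Matrix (Fin 27) (Fin 27) F) *ᵥ v with hv'
  set y' := (g : Matrix (Fin 27) (Fin 27) F) *ᵥ y with hy'
  have key : ∀ t : F, t * A v' y' + t ^ 2 * A y' v' = t * A v y + t ^ 2 * A y v := by
    intro t
    have h := T27_act hg (v + t • y)
    rw [mulVec_add, mulVec_smul, ← hv', ← hy', T27_expand, T27_expand, hv', T27_act hg v, hy',
      T27_act hg y] at h
    linear_combination h
  have h1 := key 1
  have hc := key c
  have h3 : (c - c ^ 2) * (A v' y' - A v y) = 0 := by linear_combination hc - c ^ 2 * h1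
  have h4 : c - c ^ 2 ≠ 0 := by
    rw [show c - c ^ 2 = c * (1 - c) by ring]
    exact mul_ne_zero hc0 (sub_ne_zero.2 (Ne.symm hc1))
  exact sub_eq_zero.1 ((mul_eq_zero.1 h3).resolve_left h4)

theorem Φ_act (hF : ∃ c : F, c ≠ 0 ∧ c ≠ 1) {g : GL (Fin 27) F} (hg : g ∈ stab27 F)
    (u w y : Fin 27 → F) :
    Φ ((g : Matrix (Fin 27) (Fin 27) F) *ᵥ u) ((g : Matrix (Fin 27) (Fin 27) F) *ᵥ w)
      ((g : Matrix (Fin 27) (Fin 27) F) *ᵥ y) = Φ u w y := by
  have h := A_expand ((g : Matrix (Fin 27) (Fin 27) F) *ᵥ u) ((g : Matrix (Fin 27) (Fin 27) F) *ᵥ w)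
    ((g : Matrix (Fin 27) (Fin 27) F) *ᵥ y)
  rw [← mulVec_add, A_act hF hg, A_act hF hg, A_act hF hg, A_expand] at h
  linear_combination -h

/-- The coordinate vector. -/
abbrev e (a : Fin 27) : Fin 27 → F := Pi.single a 1

/-- The monomials with the given first and second coordinate. -/
def first2 (b a : Fin 27) : List (Fin 27 × ℤ) :=
  (perms.filter fun q => decide (q.1 = b) && decide (q.2.1 = a)).map fun q => (q.2.2.1, q.2.2.2)

/-- The monomials with the given first and third coordinate. -/
def outer2 (b z : Fin 27) : List (Fin 27 × ℤ) :=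
  (perms.filter fun q => decide (q.1 = b) && decide (q.2.2.1 = z)).map fun q => (q.2.1, q.2.2.2)

theorem Φ_first2 (b a : Fin 27) (y : Fin 27 → F) :
    Φ (e b) (e a) y = ((first2 b a).map fun q => (q.2 : F) * y q.1).sum := by
  simp only [Φ, first2, triSum]
  induction perms with
  | nil => rfl
  | cons q l ih =>
    rw [List.map_cons, List.sum_cons, ih]
    by_cases h : q.1 = b ∧ q.2.1 = a
    · rw [List.filter_cons_of_pos (by simp [h])]
      simp [h.1, h.2]
    · rw [List.filter_cons_of_neg (by simpa using h)]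
      rcases not_and_or.1 h with h' | h' <;> simp [h']

theorem Φ_outer2 (b z : Fin 27) (v : Fin 27 → F) :
    Φ (e b) v (e z) = ((outer2 b z).map fun q => (q.2 : F) * v q.1).sum := by
  simp only [Φ, outer2, triSum]
  induction perms with
  | nil => rfl
  | cons q l ih =>
    rw [List.map_cons, List.sum_cons, ih]
    by_cases h : q.1 = b ∧ q.2.2.1 = z
    · rw [List.filter_cons_of_pos (by simp [h])]
      simp [h.1, h.2]
    · rw [List.filter_cons_of_neg (by simpa using h)]
      rcases not_and_or.1 h with h' | h' <;> simp [h']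

theorem Φ_smul (c : F) (u w y : Fin 27 → F) :
    Φ (c • u) w y = c * Φ u w y ∧ Φ u (c • w) y = c * Φ u w y ∧ Φ u w (c • y) = c * Φ u w y := by
  simp only [Φ, triSum, ← List.sum_map_mul_left]
  refine ⟨?_, ?_, ?_⟩ <;> refine congrArg List.sum (List.map_congr_left fun q _ => ?_) <;>
    simp only [Pi.smul_apply, smul_eq_mul] <;> ring

/-- The monomials of one component of the quadratic map. -/
def quad (z : Fin 27) : List (Fin 27 × Fin 27 × ℤ) :=
  (cyc.filter fun q => decide (q.2.2.1 = z)).map fun q => (q.1, q.2.1, q.2.2.2)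

theorem A_quad (v : Fin 27 → F) (z : Fin 27) :
    A v (e z) = ((quad z).map fun q => (q.2.2 : F) * (v q.1 * v q.2.1)).sum := by
  simp only [A, quad, triSum]
  induction cyc with
  | nil => rfl
  | cons q l ih =>
    rw [List.map_cons, List.sum_cons, ih]
    by_cases h : q.2.2.1 = z
    · rw [List.filter_cons_of_pos (by simp [h])]
      simp [h]
    · rw [List.filter_cons_of_neg (by simp [h])]
      simp [h]

theorem cyc_ne : ∀ q ∈ cyc, q.1 ≠ q.2.1 := by decide +kernel

theorem A_single (a : Fin 27) (y : Fin 27 → F) : A (e a) y = 0 := by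
  refine List.sum_eq_zero fun x hx => ?_
  obtain ⟨q, hq, rfl⟩ := List.mem_map.1 hx
  have := cyc_ne q hq
  by_cases h : q.1 = a
  · simp [h, show q.2.1 ≠ a from fun e => this (h.trans e.symm)]
  · simp [h]

end CfsgLib.E6Iso
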