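import Cfsg.Agent.Lib.E6Iso.Moves

/-!
Every isometry of the cubic form is a product of root elements.
-/

set_option autoImplicit false

namespace CfsgLib.E6Iso

open Matrix Cfsg.Lie

variable {F : Type*} [Field F]

/-- The action on a coordinate vector. -/
abbrev col (g : GL (Fin 27) F) (a : Fin 27) : Fin 27 → F := (g : Matrix (Fin 27) (Fin 27) F) *ᵥ e a

theorem col_mul (m g : GL (Fin 27) F) (a : Fin 27) :
    col (m * g) a = (m : Matrix (Fin 27) (Fin 27) F) *ᵥ col g a := by
  rw [col, col, Units.val_mul, mulVec_mulVec]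

theorem act_inv (g : GL (Fin 27) F) (v : Fin 27 → F) :
    (g : Matrix (Fin 27) (Fin 27) F) *ᵥ ((↑(g⁻¹) : Matrix (Fin 27) (Fin 27) F) *ᵥ v) = v := by
  rw [mulVec_mulVec, Units.mul_inv, one_mulVec]

theorem col_ne (g : GL (Fin 27) F) (a : Fin 27) : col g a ≠ 0 := fun h => by
  have := congrArg (fun w => (↑(g⁻¹) : Matrix (Fin 27) (Fin 27) F) *ᵥ w) h
  rw [col, mulVec_mulVec, Units.inv_mul, one_mulVec, mulVec_zero] at this
  simpa using congrFun this a

/-- A unit sign. -/
def isSign (σ : ℤ) : Bool := decide (σ = 1) || decide (σ = -1)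

theorem sign_ne {σ : ℤ} (h : isSign σ = true) : (σ : F) ≠ 0 := by
  simp only [isSign, Bool.or_eq_true, decide_eq_true_eq] at h
  rcases h with h | h <;> simp [h]

/-- The known images: coordinate vectors up to a non-zero factor. -/
def Maps (g : GL (Fin 27) F) (Pm : List (Fin 27 × Fin 27)) : Prop :=
  ∀ p ∈ Pm, ∃ c : F, c ≠ 0 ∧ col g p.1 = c • e p.2

/-- Check of a vanishing certificate. -/
def certOK (Pm : List (Fin 27 × Fin 27)) (a : Fin 27) (l : List (Fin 27 × Fin 27 × Fin 27 × Fin 27)) :
    Bool :=
  l.all fun q => decide ((q.2.1, q.2.2.1) ∈ Pm) && (first2 q.2.1 a).isEmpty &&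
    match outer2 q.2.2.1 q.2.2.2 with
    | [(d, σ)] => decide (d = q.1) && isSign σ
    | _ => false

variable (hF : ∃ c : F, c ≠ 0 ∧ c ≠ 1)
include hF

theorem certOK_sound {g : GL (Fin 27) F} (hg : g ∈ stab27 F) {Pm : List (Fin 27 × Fin 27)}
    (hP : Maps g Pm) {a : Fin 27} {l : List (Fin 27 × Fin 27 × Fin 27 × Fin 27)}
    (h : certOK Pm a l = true) : ∀ d ∈ l.map Prod.fst, col g a d = 0 := by
  intro d hd
  obtain ⟨⟨d, b, i, z⟩, hq, rfl⟩ := List.mem_map.1 hd
  have h := List.all_eq_true.1 h _ hq
  simp only [Bool.and_eq_true, decide_eq_true_eq, List.isEmpty_iff] at h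
  obtain ⟨⟨hPm, he⟩, ho⟩ := h
  split at ho
  next d' σ heq =>
    simp only [Bool.and_eq_true, decide_eq_true_eq] at ho
    obtain ⟨rfl, hσ⟩ := ho
    obtain ⟨c, hc, hcb⟩ := hP _ hPm
    have key := Φ_act hF hg (e b) (e a) ((↑(g⁻¹) : Matrix (Fin 27) (Fin 27) F) *ᵥ e z)
    rw [act_inv, Φ_first2 b a, he] at key
    change Φ (col g b) (col g a) (e z) = _ at key
    rw [hcb, (Φ_smul c _ _ _).1, Φ_outer2, heq] at key
    simpa [hc, sign_ne hσ] using key
  next => exact absurd ho Bool.false_ne_true

/-- The monomials of a component with no vanishing factor. -/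
def live (z : Fin 27) (Z : List (Fin 27)) : List (Fin 27 × Fin 27 × ℤ) :=
  (quad z).filter fun q => decide (q.1 ∉ Z) && decide (q.2.1 ∉ Z)

theorem live_sum {g : GL (Fin 27) F} (hg : g ∈ stab27 F) (a z : Fin 27) {Z : List (Fin 27)}
    (hZ : ∀ x ∈ Z, col g a x = 0) :
    ((live z Z).map fun q => (q.2.2 : F) * (col g a q.1 * col g a q.2.1)).sum = 0 := by
  have key := A_act hF hg (e a) ((↑(g⁻¹) : Matrix (Fin 27) (Fin 27) F) *ᵥ e z)
  rw [act_inv, A_single, A_quad] at key
  rw [← key, live]
  induction quad z with
  | nil => rfl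
  | cons q l ih =>
    by_cases h : q.1 ∉ Z ∧ q.2.1 ∉ Z
    · rw [List.filter_cons_of_pos (by simp [h]), List.map_cons, List.sum_cons, List.map_cons,
        List.sum_cons, ih]
    · rw [List.filter_cons_of_neg (by simpa using h), List.map_cons, List.sum_cons, ih]
      rcases not_and_or.1 h with h | h <;> rw [not_not] at h <;> simp [hZ _ h]

/-- Check that a product of two coordinates is forced to vanish. -/
def forceOK (z x y : Fin 27) (Z : List (Fin 27)) : Bool :=
  match live z Z with
  | [(p, q, σ)] => isSign σ &&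
      ((decide (p = x) && decide (q = y)) || (decide (p = y) && decide (q = x)))
  | _ => false

theorem forceOK_sound {g : GL (Fin 27) F} (hg : g ∈ stab27 F) {a z x y : Fin 27} {Z : List (Fin 27)}
    (hZ : ∀ w ∈ Z, col g a w = 0) (h : forceOK z x y Z = true) (hx : col g a x ≠ 0) :
    col g a y = 0 := by
  have key := live_sum hF hg a z hZ
  simp only [forceOK] at h
  split at h
  next p q σ heq =>
    simp only [Bool.and_eq_true, Bool.or_eq_true, decide_eq_true_eq] at h
    obtain ⟨hσ, ⟨rfl, rfl⟩ | ⟨rfl, rfl⟩⟩ := h
    all_goals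
      rw [heq] at key
      simp only [List.map_cons, List.map_nil, List.sum_cons, List.sum_nil, add_zero, mul_eq_zero] at key
    · exact (key.resolve_left (sign_ne hσ)).resolve_left hx
    · exact (key.resolve_left (sign_ne hσ)).resolve_right hx
  next => exact absurd h Bool.false_ne_true

omit hF

/-- The coordinates are untouched by a root's pairs. -/
def offB (r : ℕ) (P : List (Fin 27)) : Bool :=
  decide (r < 72) && (pairs r).all fun q => decide (q.1 ∉ P) && decide (q.2.1 ∉ P)

/-- The clearing moves. -/
def clearRun (P : List (Fin 27)) (a : Fin 27) (Z0 : List (Fin 27)) :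
    List (ℕ × Fin 27) → List (Fin 27) → Option (List (Fin 27))
  | [], Z => some Z
  | (r, d) :: L, Z =>
    match (pairs r).filter fun q => decide (q.2.1 = d) with
    | [(s, _, η)] =>
      if decide (s = a) && isSign η && decide (r < 72) && (pairs r).all (fun q => decide (q.1 ∉ P)) then
        clearRun P a Z0 L
          (d :: (Z.filter fun z => (pairs r).all fun q => decide (q.2.1 ≠ z) || decide (q.1 ∈ Z)) ++ Z0)
      else none
    | _ => none

/-- The forced zeros. -/
def forceRun (a : Fin 27) : List (Fin 27 × Fin 27) → List (Fin 27) → Option (List (Fin 27))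
  | [], Z => some Z
  | (z, d) :: L, Z => if forceOK z a d Z then forceRun a L (d :: Z) else none

/-- A list of moves sends a coordinate to `a` and fixes the given ones. -/
def moveOK (P : List (Fin 27)) (a : Fin 27) (m : Fin 27 × List ℕ) : Bool :=
  m.2.all (fun r => offB r P) && decide (m.2.foldr nperm m.1 = a)

/-- Check of one generic step. -/
def stepOK (P : List (Fin 27)) (st : Step) : Bool :=
  certOK (P.map fun b => (b, b)) st.a st.cert &&
  (match st.wit2 with
    | some (b, c) => decide (b ∈ P) && decide (c ∈ P) &&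
      (match first2 b c with
        | [(d, σ)] => decide (d = st.a) && isSign σ
        | _ => false)
    | none =>
      (match st.wit with
        | some b => decide (b ∈ P) &&
          (match first2 b st.a with
            | [(_, σ)] => isSign σ
            | _ => false) &&
          perms.all (fun q => decide (q.1 ≠ b) || decide (q.2.1 ∈ st.cert.map Prod.fst) ||
            decide (q.2.1 ∈ st.moves.map Prod.fst))
        | none => (List.finRange 27).all fun d =>
            decide (d ∈ st.cert.map Prod.fst) || decide (d ∈ st.moves.map Prod.fst)) &&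
      st.moves.all (moveOK P st.a) &&
      (match st.scale with
        | some r => offB r P && (decide (pwR r st.a = 1) || decide (pwR r st.a = -1))
        | none => false)) &&
  (match (clearRun P st.a (st.cert.map Prod.fst) st.clear (st.cert.map Prod.fst)).bind
      (forceRun st.a st.forced) with
    | some Z => (List.finRange 27).all fun x => decide (x = st.a) || decide (x ∈ Z)
    | none => false)

/-- The given coordinate vectors are fixed. -/
def Fix (g : GL (Fin 27) F) (P : List (Fin 27)) : Prop := ∀ b ∈ P, col g b = e b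

theorem Fix.maps {g : GL (Fin 27) F} {P : List (Fin 27)} (h : Fix g P) :
    Maps g (P.map fun b => (b, b)) := by
  intro p hp
  obtain ⟨b, hb, rfl⟩ := List.mem_map.1 hp
  exact ⟨1, one_ne_zero, by rw [one_smul, h b hb]⟩

theorem offB_off {r : ℕ} {P : List (Fin 27)} (h : offB r P = true) :
    r < 72 ∧ ∀ b ∈ P, Off r b := by
  simp only [offB, Bool.and_eq_true, decide_eq_true_eq, List.all_eq_true] at h
  exact ⟨h.1, fun b hb q hq => ⟨fun e => (h.2 q hq).1 (e ▸ hb), fun e => (h.2 q hq).2 (e ▸ hb)⟩⟩

include hF

theorem clearRun_sound {P : List (Fin 27)} {a : Fin 27}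
    {cert : List (Fin 27 × Fin 27 × Fin 27 × Fin 27)}
    (hc : certOK (P.map fun b => (b, b)) a cert = true) :
    ∀ (L : List (ℕ × Fin 27)) (Z Z' : List (Fin 27)) (g : GL (Fin 27) F),
      clearRun P a (cert.map Prod.fst) L Z = some Z' → g ∈ stab27 F → Fix g P → col g a a = 1 →
      (∀ z ∈ Z, col g a z = 0) →
      ∃ m ∈ (hom F).range, Fix (m * g) P ∧ col (m * g) a a = 1 ∧ ∀ z ∈ Z', col (m * g) a z = 0
  | [], Z, Z', g, h, _, hP, ha, hZ => by
    simp only [clearRun, Option.some.injEq] at h
    exact ⟨1, one_mem _, by rwa [one_mul], by rwa [one_mul], by rw [one_mul, ← h]; exact hZ⟩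
  | (r, d) :: L, Z, Z', g, h, hg, hP, ha, hZ => by
    simp only [clearRun] at h
    split at h
    next s d' η heq =>
      split_ifs at h with hcond
      simp only [Bool.and_eq_true, decide_eq_true_eq, List.all_eq_true] at hcond
      obtain ⟨⟨⟨rfl, hη⟩, hr⟩, hPr⟩ := hcond
      have hη2 : (η : F) * η = 1 := by
        simp only [isSign, Bool.or_eq_true, decide_eq_true_eq] at hη
        rcases hη with h | h <;> simp [h]
      have hmem : (s, d', η) ∈ pairs r :=
        List.mem_of_mem_filter (heq ▸ List.mem_cons_self : (s, d', η) ∈ List.filter _ _)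
      set t : F := -(η * col g s d) with ht
      have hgX := mul_mem (X_mem r t) hg
      have hP' : Fix (X r t * g) P := fun b hb => by
        rw [col_mul, hP b hb, coe_X, rootMat_mulVec, mv]
        refine (add_eq_left (a := e b)).2 (smul_eq_zero_of_right t (List.sum_eq_zero fun x hx => ?_))
        obtain ⟨q, hq, rfl⟩ := List.mem_map.1 hx
        have : q.1 ≠ b := fun e => hPr q hq (e ▸ hb)
        simp [this]
      have hnd : col (X r t * g) s d = 0 := by
        rw [col_mul, X_mulVec_apply, mv_apply, heq, ht]
        simp only [List.map_cons, List.map_nil, List.sum_cons, List.sum_nil, add_zero, ha, mul_one]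
        linear_combination (-(col g s d)) * hη2
      have hna : col (X r t * g) s s = 1 := by
        rw [col_mul, X_mulVec_apply, mv_src hmem, mul_zero, add_zero, ha]
      obtain ⟨m, hm, h1, h2, h3⟩ := clearRun_sound hc L _ Z' (X r t * g) h hgX hP' hna fun z hz => by
        simp only [List.mem_cons, List.mem_append, List.mem_filter, List.all_eq_true, Bool.or_eq_true,
          decide_eq_true_eq] at hz
        rcases hz with (rfl | ⟨hz, hsrc⟩) | hz
        · exact hnd
        · rw [col_mul, X_mulVec_apply, hZ z hz, mv_apply, List.sum_eq_zero, mul_zero, add_zero]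
          intro x hx
          obtain ⟨q, hq, rfl⟩ := List.mem_map.1 hx
          obtain ⟨hq, hqz⟩ := List.mem_filter.1 hq
          rcases hsrc q hq with e | e
          · exact absurd (of_decide_eq_true hqz) e
          · rw [hZ _ e, mul_zero]
        · exact certOK_sound hF hgX hP'.maps hc z hz
      exact ⟨m * X r t, mul_mem hm (X_mem_range r t), by rwa [mul_assoc], by rwa [mul_assoc],
        by rwa [mul_assoc]⟩
    next => simp at h

theorem forceRun_sound {g : GL (Fin 27) F} (hg : g ∈ stab27 F) {a : Fin 27} (ha : col g a a ≠ 0) :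
    ∀ (L : List (Fin 27 × Fin 27)) (Z Z' : List (Fin 27)), forceRun a L Z = some Z' →
      (∀ z ∈ Z, col g a z = 0) → ∀ z ∈ Z', col g a z = 0
  | [], Z, Z', h, hZ => by simp only [forceRun, Option.some.injEq] at h; exact h ▸ hZ
  | (z, d) :: L, Z, Z', h, hZ => by
    simp only [forceRun] at h
    split_ifs at h with hf
    refine forceRun_sound hg ha L _ Z' h fun w hw => ?_
    rcases List.mem_cons.1 hw with rfl | hw
    exacts [forceOK_sound hF hg hZ hf ha, hZ w hw]

theorem moves_sound {P : List (Fin 27)} : ∀ (L : List ℕ), (∀ r ∈ L, offB r P = true) →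
    ∀ (g : GL (Fin 27) F) (a d : Fin 27), Fix g P → col g a d ≠ 0 →
      ∃ m ∈ (hom F).range, Fix (m * g) P ∧ col (m * g) a (L.foldr nperm d) ≠ 0
  | [], _, g, a, d, hP, hd => ⟨1, one_mem _, by rwa [one_mul], by rwa [one_mul]⟩
  | r :: L, h, g, a, d, hP, hd => by
    obtain ⟨m, hm, hP', hd'⟩ := moves_sound L (fun x hx => h x (List.mem_cons_of_mem _ hx)) g a d hP hd
    obtain ⟨hr, hoff⟩ := offB_off (h r List.mem_cons_self)
    refine ⟨N r 1 * m, mul_mem (N_mem r 1) hm, fun b hb => ?_, ?_⟩
    · rw [mul_assoc, col_mul, hP' b hb, N_fix hr one_ne_zero (hoff b hb)]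
    · rw [mul_assoc, col_mul, List.foldr_cons]
      exact nperm_ne hr one_ne_zero hd'

theorem range_le_stab {m g : GL (Fin 27) F} (hm : m ∈ (hom F).range) (hg : g ∈ stab27 F) :
    m * g ∈ stab27 F := mul_mem (hom_range_le hm) hg

theorem step_sound {P : List (Fin 27)} {st : Step} (h : stepOK P st = true) {g : GL (Fin 27) F}
    (hg : g ∈ stab27 F) (hP : Fix g P) : ∃ m ∈ (hom F).range, Fix (m * g) (P ++ [st.a]) := by
  simp only [stepOK, Bool.and_eq_true] at h
  obtain ⟨⟨hc, hw⟩, hrun⟩ := h
  obtain ⟨m, hm, hP', ha⟩ : ∃ m ∈ (hom F).range, Fix (m * g) P ∧ col (m * g) st.a st.a = 1 := by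
    split at hw
    next b c hb =>
      simp only [Bool.and_eq_true, decide_eq_true_eq] at hw
      obtain ⟨⟨hb, hc'⟩, hf⟩ := hw
      split at hf
      next d σ heq =>
        simp only [Bool.and_eq_true, decide_eq_true_eq] at hf
        obtain ⟨rfl, hσ⟩ := hf
        refine ⟨1, one_mem _, by rwa [one_mul], ?_⟩
        have key := Φ_act hF hg (e b) (e c) (e st.a)
        change Φ (col g b) (col g c) (col g st.a) = _ at key
        rw [hP b hb, hP c hc', Φ_first2, Φ_first2, heq] at key
        rw [one_mul]
        simpa [sign_ne hσ] using key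
      next => exact absurd hf Bool.false_ne_true
    next =>
      simp only [Bool.and_eq_true, List.all_eq_true] at hw
      obtain ⟨⟨hwit, hmoves⟩, hscale⟩ := hw
      have hzero := certOK_sound hF hg hP.maps hc
      obtain ⟨d, L, hdL, hd⟩ : ∃ d L, (d, L) ∈ st.moves ∧ col g st.a d ≠ 0 := by
        by_contra hnot
        push_neg at hnot
        have hmv : ∀ d ∈ st.moves.map Prod.fst, col g st.a d = 0 := fun d hd => by
          obtain ⟨⟨d, L⟩, hq, rfl⟩ := List.mem_map.1 hd
          exact hnot d L hq
        split at hwit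
        next b hb =>
          simp only [Bool.and_eq_true, decide_eq_true_eq, List.all_eq_true, Bool.or_eq_true] at hwit
          obtain ⟨⟨hbP, hf⟩, hall⟩ := hwit
          split at hf
          next z σ heq =>
            have key := Φ_act hF hg (e b) (e st.a) (e z)
            change Φ (col g b) (col g st.a) (col g z) = _ at key
            rw [hP b hbP, Φ_first2 b st.a, heq] at key
            have h0 : Φ (e b) (col g st.a) (col g z) = 0 := by
              refine List.sum_eq_zero fun x hx => ?_
              obtain ⟨q, hq, rfl⟩ := List.mem_map.1 hx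
              rcases hall q hq with (e | e) | e
              · simp [Pi.single_eq_of_ne e]
              · simp [hzero _ e]
              · simp [hmv _ e]
            rw [h0] at key
            exact sign_ne (F := F) hf (by simpa using key.symm)
          next => exact absurd hf Bool.false_ne_true
        next =>
          simp only [List.all_eq_true, List.mem_finRange, Bool.or_eq_true, decide_eq_true_eq,
            true_implies] at hwit
          exact col_ne g st.a (funext fun d => (hwit d).elim (hzero d) (hmv d))
      have hmd := hmoves _ hdL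
      simp only [moveOK, Bool.and_eq_true, List.all_eq_true, decide_eq_true_eq] at hmd
      obtain ⟨m1, hm1, hP1, hv1⟩ := moves_sound hF L hmd.1 g st.a d hP hd
      rw [hmd.2] at hv1
      split at hscale
      next r hr =>
        simp only [Bool.and_eq_true, Bool.or_eq_true, decide_eq_true_eq] at hscale
        obtain ⟨hoffB, hpw⟩ := hscale
        obtain ⟨hr72, hoff⟩ := offB_off hoffB
        set v : F := col (m1 * g) st.a st.a with hv
        have ht : v⁻¹ ^ pwR r st.a ≠ 0 := zpow_ne_zero _ (inv_ne_zero hv1)
        refine ⟨H r (v⁻¹ ^ pwR r st.a) * m1, mul_mem (H_mem _ _) hm1, fun b hb => ?_, ?_⟩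
        · rw [mul_assoc, col_mul, hP1 b hb]
          funext x
          rw [H_apply hr72 ht]
          rcases eq_or_ne x b with rfl | hx
          · have : pwR r x = 0 := by
              rw [pwR]
              simp only [List.any_eq_true, decide_eq_true_eq]
              rw [if_neg fun ⟨q, hq, e⟩ => (hoff x hb q hq).2 e,
                if_neg fun ⟨q, hq, e⟩ => (hoff x hb q hq).1 e]
            simp [this]
          · simp [Pi.single_eq_of_ne hx]
        · rw [mul_assoc, col_mul, H_apply hr72 ht, ← hv, ← _root_.zpow_mul]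
          rcases hpw with e | e <;> simp [e, inv_mul_cancel₀ hv1]
      next => exact absurd hscale Bool.false_ne_true
    all_goals exact absurd hw Bool.false_ne_true
  split at hrun
  next Z hZ =>
    obtain ⟨Z1, hZ1, hZ2⟩ := Option.bind_eq_some_iff.1 hZ
    have hg1 := range_le_stab hF hm hg
    obtain ⟨m2, hm2, hP2, ha2, hz2⟩ := clearRun_sound hF hc _ _ Z1 (m * g) hZ1 hg1 hP' ha
      (certOK_sound hF hg1 hP'.maps hc)
    have hg2 := range_le_stab hF hm2 hg1
    have hz := forceRun_sound hF hg2 (by rw [ha2]; exact one_ne_zero) _ _ Z hZ2 hz2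
    simp only [List.all_eq_true, List.mem_finRange, Bool.or_eq_true, decide_eq_true_eq,
      true_implies] at hrun
    refine ⟨m2 * m, mul_mem hm2 hm, fun b hb => ?_⟩
    rw [mul_assoc]
    rcases List.mem_append.1 hb with hb | hb
    · exact hP2 b hb
    · obtain rfl := List.mem_singleton.1 hb
      funext x
      rcases hrun x with rfl | hx
      · rw [ha2]; simp
      · rw [hz x hx]
        refine (Pi.single_eq_of_ne (M := fun _ : Fin 27 => F) (fun he => ?_) (1 : F)).symm
        exact one_ne_zero (ha2.symm.trans (hz st.a (he ▸ hx)))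
  next => exact absurd hrun Bool.false_ne_true

omit hF

/-- Check of a list of generic steps. -/
def stepsOK : List (Fin 27) → List Step → Bool
  | _, [] => true
  | P, st :: L => stepOK P st && stepsOK (P ++ [st.a]) L

/-- The coordinates fixed after the generic steps. -/
def P9 : List (Fin 27) := steps.map Step.a

/-- The coordinates that are eigenvectors afterwards. -/
def P11 : List (Fin 27) := P9 ++ [17, 24]

theorem stepsB : stepsOK [] steps = true := by decide +kernel

include hF

theorem steps_sound : ∀ (L : List Step) (P : List (Fin 27)) (g : GL (Fin 27) F),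
    stepsOK P L = true → g ∈ stab27 F → Fix g P →
      ∃ m ∈ (hom F).range, Fix (m * g) (P ++ L.map Step.a)
  | [], P, g, _, _, hP => ⟨1, one_mem _, by rw [one_mul]; simpa using hP⟩
  | st :: L, P, g, h, hg, hP => by
    simp only [stepsOK, Bool.and_eq_true] at h
    obtain ⟨m, hm, hP'⟩ := step_sound hF h.1 hg hP
    obtain ⟨m2, hm2, hP2⟩ := steps_sound L _ (m * g) h.2 (range_le_stab hF hm hg) hP'
    exact ⟨m2 * m, mul_mem hm2 hm, by rw [mul_assoc]; simpa using hP2⟩

omit hF

theorem endB :
    certOK (P9.map fun b => (b, b)) 17 certX = true ∧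
    certOK (P9.map fun b => (b, b)) 24 certY = true ∧
    certOK ((P9.map fun b => (b, b)) ++ [(17, 24)]) 0 certBad = true ∧
    (((List.finRange 27).all fun x => decide (x = 17) || decide (x = 24) ||
      (decide (x ∈ certX.map Prod.fst) && decide (x ∈ certY.map Prod.fst))) &&
    ((List.finRange 27).all fun x => decide (x ∈ certBad.map Prod.fst)) &&
    ((List.finRange 27).any fun z => forceOK z 24 17 (certX.map Prod.fst)) &&
    ((List.finRange 27).any fun z => forceOK z 24 17 (certY.map Prod.fst)) &&
    (match first2 2 17 with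
      | [(d, σ)] => decide (d = 24) && isSign σ
      | _ => false) &&
    decide ((2 : Fin 27) ∈ P9) &&
    ((List.finRange 27).all fun a => decide (a ∈ P11) || certDiag.any fun q =>
      decide (q.1 = a) && certOK (P11.map fun b => (b, b)) a q.2 &&
        (List.finRange 27).all fun x => decide (x = a) || decide (x ∈ q.2.map Prod.fst))) = true := by
  decide +kernel

include hF

theorem exists_diag {g : GL (Fin 27) F} (hg : g ∈ stab27 F) :
    ∃ m ∈ (hom F).range, ∀ a, ∃ c : F, c ≠ 0 ∧ col (m * g) a = c • e a := by
  obtain ⟨m, hm, hP⟩ := steps_sound hF steps [] g stepsB hg (fun b hb => absurd hb List.not_mem_nil)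
  refine ⟨m, hm, ?_⟩
  rw [List.nil_append] at hP
  have hs := range_le_stab hF hm hg
  generalize m * g = k at hP hs
  obtain ⟨hX, hY, hB, hrest⟩ := endB
  simp only [Bool.and_eq_true, List.all_eq_true, List.any_eq_true, List.mem_finRange, true_and,
    true_implies, Bool.or_eq_true, decide_eq_true_eq] at hrest
  obtain ⟨⟨⟨⟨⟨⟨hcov, hcovB⟩, ⟨zX, hzX⟩⟩, ⟨zY, hzY⟩⟩, hf⟩, h2⟩, hD⟩ := hrest
  have vX := certOK_sound hF hs hP.maps hX
  have vY := certOK_sound hF hs hP.maps hY
  have supp : ∀ a, (∀ x, x ≠ 17 → x ≠ 24 → col k a x = 0) →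
      col k a = col k a 17 • e 17 + col k a 24 • e 24 := fun a h => by
    funext x
    by_cases h17 : x = 17
    · subst h17; simp
    by_cases h24 : x = 24
    · subst h24; simp
    simp [h x h17 h24, h17, h24]
  have sX := supp 17 fun x h17 h24 =>
    vX x ((hcov x).resolve_left (fun h => h.elim h17 h24)).1
  have sY := supp 24 fun x h17 h24 =>
    vY x ((hcov x).resolve_left (fun h => h.elim h17 h24)).2
  have x24 : col k 17 24 = 0 := by
    by_contra hne
    have h17 : col k 17 17 = 0 := forceOK_sound hF hs vX hzX hne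
    have hm' : Maps k ((P9.map fun b => (b, b)) ++ [(17, 24)]) := by
      intro p hp
      rcases List.mem_append.1 hp with hp | hp
      · exact hP.maps p hp
      · obtain rfl := List.mem_singleton.1 hp
        exact ⟨_, hne, by rw [sX, h17, zero_smul, zero_add]; simp⟩
    exact col_ne k 0 (funext fun x => certOK_sound hF hs hm' hB x (hcovB x))
  rw [x24, zero_smul, add_zero] at sX
  have lam : col k 17 17 ≠ 0 := fun h => col_ne k 17 (by rw [sX, h, zero_smul])
  split at hf
  next d σ heq =>
    simp only [Bool.and_eq_true, decide_eq_true_eq] at hf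
    obtain ⟨rfl, hσ⟩ := hf
    have key := Φ_act hF hs (e 2) (e 17) (e 24)
    change Φ (col k 2) (col k 17) (col k 24) = _ at key
    rw [hP 2 h2, sX, (Φ_smul _ _ _ _).2.1, Φ_first2, Φ_first2, heq] at key
    simp only [List.map_cons, List.map_nil, List.sum_cons, List.sum_nil, add_zero,
      Pi.single_eq_same, mul_one] at key
    have y24 : col k 24 24 ≠ 0 := fun h => sign_ne (F := F) hσ (by simpa [h] using key.symm)
    rw [forceOK_sound hF hs vY hzY y24, zero_smul, zero_add] at sY
    have h11 : Maps k (P11.map fun b => (b, b)) := by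
      intro p hp
      simp only [P11, List.map_append, List.mem_append, List.map_cons, List.map_nil, List.mem_cons,
        List.not_mem_nil, or_false] at hp
      rcases hp with hp | rfl | rfl
      exacts [hP.maps p hp, ⟨_, lam, sX⟩, ⟨_, y24, sY⟩]
    intro a
    rcases hD a with ha | ⟨q, hq, ⟨rfl, hcert⟩, hcov'⟩
    · obtain ⟨c, hc, hc'⟩ := h11 (a, a) (List.mem_map.2 ⟨a, ha, rfl⟩)
      exact ⟨c, hc, hc'⟩
    · have hv := certOK_sound hF hs h11 hcert
      have hsingle : col k q.1 = col k q.1 q.1 • e q.1 := by
        funext x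
        rcases hcov' x with rfl | hx
        · simp
        · by_cases hxq : x = q.1
          · subst hxq; simp
          · simp [hv x hx, hxq]
      exact ⟨_, fun h => col_ne k q.1 (by rw [hsingle, h, zero_smul]), hsingle⟩
  next => exact absurd hf Bool.false_ne_true

omit hF

/-- Simple roots in the numbering of the datum's root list. -/
def simpleRoots : Fin 6 → ℕ := ![56, 46, 42, 39, 37, 36]

/-- The basis coordinates. -/
def bC (j : Fin 6) : Fin 27 := basisCoords.getD j.val 0

/-- The inverse matrix. -/
def bI (k j : Fin 6) : ℤ := (basisInv.getD k.val []).getD j.val 0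

theorem torusB : ∀ i j : Fin 6,
    simpleRoots i < 72 ∧ ∑ k, pwR (simpleRoots k) (bC i) * bI k j = if i = j then 1 else 0 := by
  decide +kernel

/-- The chain determines all coordinates from the basis ones. -/
def chainOK : List (Fin 27 × Fin 27 × Fin 27) → List (Fin 27) → Bool
  | [], K => (List.finRange 27).all fun x => decide (x ∈ K)
  | (x, a, b) :: L, K => decide (a ∈ K) && decide (b ∈ K) &&
      (match first2 a b with
        | [(c, σ)] => decide (c = x) && isSign σ
        | _ => false) && chainOK L (x :: K)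

theorem chainB : chainOK chain basisCoords = true := by decide +kernel

include hF

theorem chain_sound {g : GL (Fin 27) F} (hg : g ∈ stab27 F) (d : Fin 27 → F)
    (hd : ∀ a, col g a = d a • e a) : ∀ (L : List (Fin 27 × Fin 27 × Fin 27)) (K : List (Fin 27)),
    chainOK L K = true → (∀ x ∈ K, d x = 1) → ∀ x, d x = 1
  | [], K, h, hK, x => by
    simp only [chainOK, List.all_eq_true, List.mem_finRange, decide_eq_true_eq, true_implies] at h
    exact hK x (h x)
  | (x, a, b) :: L, K, h, hK, w => by
    simp only [chainOK, Bool.and_eq_true, decide_eq_true_eq] at h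
    obtain ⟨⟨⟨ha, hb⟩, hf⟩, hL⟩ := h
    split at hf
    next c σ heq =>
      simp only [Bool.and_eq_true, decide_eq_true_eq] at hf
      obtain ⟨rfl, hσ⟩ := hf
      have key := Φ_act hF hg (e a) (e b) (e c)
      change Φ (col g a) (col g b) (col g c) = _ at key
      rw [hd a, hd b, hd c, hK a ha, hK b hb, one_smul, one_smul, (Φ_smul _ _ _ _).2.2, Φ_first2,
        heq] at key
      have hc : d c = 1 := by simpa [sign_ne hσ] using key
      exact chain_sound hg d hd L _ hL (fun y hy => (List.mem_cons.1 hy).elim (fun e => e ▸ hc) (hK y)) w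
    next => exact absurd hf Bool.false_ne_true

theorem diag_mem {g : GL (Fin 27) F} (hg : g ∈ stab27 F)
    (hd : ∀ a, ∃ c : F, c ≠ 0 ∧ col g a = c • e a) : g ∈ (hom F).range := by
  classical
  choose d hd0 hd using hd
  let du : Fin 27 → Fˣ := fun a => Units.mk0 (d a) (hd0 a)
  let c : Fin 6 → Fˣ := fun k => ∏ j, du (bC j) ^ bI k j
  have hH : ∀ (l : List (Fin 6)) (v : Fin 27 → F) (a : Fin 27),
      (((l.map fun k => H (simpleRoots k) (c k : F)).prod : GL (Fin 27) F) :
        Matrix (Fin 27) (Fin 27) F) *ᵥ v = fun x =>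
          (((l.map fun k => c k ^ pwR (simpleRoots k) x).prod : Fˣ) : F) * v x := by
    intro l v _
    induction l with
    | nil => simp
    | cons k l ih =>
      rw [List.map_cons, List.prod_cons, Units.val_mul, ← mulVec_mulVec, ih]
      funext x
      rw [H_apply (torusB k k).1 (c k).ne_zero]
      simp [mul_assoc]
  set h := ((List.finRange 6).map fun k => H (simpleRoots k) (c k : F)).prod with hh
  have hhmem : h ∈ (hom F).range := list_prod_mem fun x hx => by
    obtain ⟨k, -, rfl⟩ := List.mem_map.1 hx
    exact H_mem _ _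
  have hbasis : ∀ i, ∏ k, c k ^ pwR (simpleRoots k) (bC i) = du (bC i) := fun i => by
    have hsum : ∀ (x : Fˣ) (f : Fin 6 → ℤ), ∏ k, x ^ f k = x ^ ∑ k, f k := fun x f =>
      by
        induction (Finset.univ : Finset (Fin 6)) using Finset.cons_induction with
        | empty => simp
        | cons a s ha ih => rw [Finset.prod_cons, Finset.sum_cons, _root_.zpow_add, ih]
    simp only [c, ← Finset.prod_zpow, ← _root_.zpow_mul]
    rw [Finset.prod_comm]
    simp only [hsum, mul_comm (bI _ _), (torusB i _).2]
    rw [Finset.prod_eq_single i (fun j _ hj => by simp [Ne.symm hj]) (by simp)]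
    simp
  let ρ : Fin 27 → Fˣ := fun x => ∏ k, c k ^ pwR (simpleRoots k) x
  have hk : ∀ a, col (h⁻¹ * g) a = (((ρ a)⁻¹ * du a : Fˣ) : F) • e a := fun a => by
    have e1 : col h a = (ρ a : F) • e a := by
      rw [col, hh, hH _ _ a]
      funext x
      rcases eq_or_ne x a with rfl | hx
      · simp [ρ, Fin.prod_univ_def]
      · simp [Pi.single_eq_of_ne hx]
    have e2 : col h⁻¹ a = (((ρ a)⁻¹ : Fˣ) : F) • e a := by
      have := congrArg (fun w => (↑(h⁻¹) : Matrix (Fin 27) (Fin 27) F) *ᵥ w) e1
      rw [col, mulVec_mulVec, Units.inv_mul, one_mulVec, mulVec_smul] at this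
      conv_rhs => rw [this]
      rw [Units.val_inv_eq_inv_val, inv_smul_smul₀ (ρ a).ne_zero]
    rw [col_mul, hd a, mulVec_smul, show (↑(h⁻¹) : Matrix (Fin 27) (Fin 27) F) *ᵥ e a = _ from e2,
      smul_smul, Units.val_mul, mul_comm]
    rfl
  have hone := chain_sound hF (mul_mem (inv_mem (hom_range_le hhmem)) hg) _ hk chain basisCoords chainB
    fun x hx => by
      obtain ⟨i, rfl⟩ : ∃ i, bC i = x := by
        have : ∀ x ∈ basisCoords, ∃ i, bC i = x := by decide +kernel
        exact this x hx
      simp [ρ, hbasis]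
  have : h⁻¹ * g = 1 := Units.ext (Matrix.ext_of_mulVec_single fun a => by
    rw [Units.val_one, one_mulVec]
    exact (hk a).trans (by rw [hone a, one_smul]))
  rw [inv_mul_eq_one] at this
  exact this ▸ hhmem

theorem hom_range : (hom F).range = stab27 F := by
  refine le_antisymm hom_range_le fun g hg => ?_
  obtain ⟨m, hm, hd⟩ := exists_diag hF hg
  have := mul_mem (inv_mem hm) (diag_mem hF (range_le_stab hF hm hg) hd)
  rwa [inv_mul_cancel_left] at this

end CfsgLib.E6Iso
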