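import Cfsg.Agent.Lib.E6Iso.Root

/-!
Monomial and diagonal elements generated by the root elements in dimension 27.
-/

set_option autoImplicit false

namespace CfsgLib.E6Iso

open Matrix Cfsg.Lie CfsgLib.OrthIso

variable {F : Type*} [Field F]

/-- The negative of a root. -/
def ng (r : ℕ) : ℕ := chevE6.neg r

theorem pairB : ∀ r : Fin 72, ∀ q ∈ pairs r, (q.2.2 = 1 ∨ q.2.2 = -1) ∧
    ((pairs r).filter fun p => decide (p.2.1 = q.2.1)) = [q] ∧
    ((pairs (ng r)).filter fun p => decide (p.2.1 = q.1)) = [(q.2.1, q.1, q.2.2)] ∧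
    ((pairs (ng r)).filter fun p => decide (p.2.1 = q.2.1)) = [] := by decide +kernel

theorem pairB_none : ∀ r : Fin 72, ((List.finRange 27).all fun a =>
    ((pairs r).any fun q => decide (q.1 = a) || decide (q.2.1 = a)) ||
      ((pairs (ng r)).filter fun p => decide (p.2.1 = a)).isEmpty) = true := by decide +kernel

/-- Weight of a coordinate along a root. -/
def pwR (r : ℕ) (a : Fin 27) : ℤ :=
  if (pairs r).any (fun q => decide (q.2.1 = a)) then 1
  else if (pairs r).any (fun q => decide (q.1 = a)) then -1 else 0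

/-- The permutation of the coordinates attached to a root. -/
def nperm (r : ℕ) (a : Fin 27) : Fin 27 :=
  (((pairs r).filterMap fun q =>
    if q.1 = a then some q.2.1 else if q.2.1 = a then some q.1 else none).head?).getD a

/-- The monomial element. -/
def N (r : ℕ) (t : F) : GL (Fin 27) F := X r t * X (ng r) (-t⁻¹) * X r t

/-- The diagonal element. -/
def H (r : ℕ) (t : F) : GL (Fin 27) F := N r t * N r (-1)

theorem X_mulVec_apply (r : ℕ) (t : F) (v : Fin 27 → F) (a : Fin 27) :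
    ((X r t : Matrix (Fin 27) (Fin 27) F) *ᵥ v) a = v a + t * mv r v a := by
  rw [coe_X, rootMat_mulVec, Pi.add_apply, Pi.smul_apply, smul_eq_mul]

theorem mv_none {r : ℕ} {a : Fin 27} (v : Fin 27 → F) (h : ∀ q ∈ pairs r, q.2.1 ≠ a) :
    mv r v a = 0 := by
  rw [mv_apply, List.filter_eq_nil_iff.2 fun q hq => by simpa using h q hq]; rfl

/-- A coordinate outside every pair of a root. -/
def Off (r : ℕ) (a : Fin 27) : Prop := ∀ q ∈ pairs r, q.1 ≠ a ∧ q.2.1 ≠ a

theorem mv_off {r : ℕ} (hr : r < 72) {a : Fin 27} (ha : Off r a) (v : Fin 27 → F) :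
    mv r v a = 0 ∧ mv (ng r) v a = 0 := by
  refine ⟨mv_none v fun q hq => (ha q hq).2, ?_⟩
  have h := List.all_eq_true.1 (pairB_none ⟨r, hr⟩) a (List.mem_finRange a)
  simp only [Bool.or_eq_true, List.any_eq_true, decide_eq_true_eq, List.isEmpty_iff] at h
  rcases h with ⟨q, hq, h' | h'⟩ | h
  exacts [absurd h' (ha q hq).1, absurd h' (ha q hq).2, by rw [mv_apply, h]; rfl]

theorem N_apply {r : ℕ} (hr : r < 72) {t : F} (ht : t ≠ 0) (v : Fin 27 → F) :
    (∀ q ∈ pairs r, ((N r t : Matrix (Fin 27) (Fin 27) F) *ᵥ v) q.2.1 = t * q.2.2 * v q.1 ∧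
      ((N r t : Matrix (Fin 27) (Fin 27) F) *ᵥ v) q.1 = -(t⁻¹ * q.2.2) * v q.2.1) ∧
    ∀ a, Off r a → ((N r t : Matrix (Fin 27) (Fin 27) F) *ᵥ v) a = v a := by
  set v1 := (X r t : Matrix (Fin 27) (Fin 27) F) *ᵥ v with hv1
  set v2 := (X (ng r) (-t⁻¹) : Matrix (Fin 27) (Fin 27) F) *ᵥ v1 with hv2
  have e : (N r t : Matrix (Fin 27) (Fin 27) F) *ᵥ v = (X r t : Matrix (Fin 27) (Fin 27) F) *ᵥ v2 := by
    rw [hv2, hv1, mulVec_mulVec, mulVec_mulVec, N, Units.val_mul, Units.val_mul, Matrix.mul_assoc]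
  refine ⟨fun q hq => ?_, fun a ha => ?_⟩
  · obtain ⟨hη, hd, hs, hd'⟩ := pairB ⟨r, hr⟩ q hq
    have hη2 : (q.2.2 : F) * q.2.2 = 1 := by rcases hη with h | h <;> simp [h]
    have m1 : ∀ w : Fin 27 → F, mv r w q.2.1 = q.2.2 * w q.1 := fun w => by
      rw [mv_apply, hd]; simp
    have m2 : ∀ w : Fin 27 → F, mv (ng r) w q.1 = q.2.2 * w q.2.1 := fun w => by
      rw [mv_apply, hs]; simp
    have m3 : ∀ w : Fin 27 → F, mv r w q.1 = 0 := fun w => mv_src hq w
    have m4 : ∀ w : Fin 27 → F, mv (ng r) w q.2.1 = 0 := fun w => by rw [mv_apply, hd']; rfl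
    have a1 : v1 q.1 = v q.1 := by rw [hv1, X_mulVec_apply, m3]; ring
    have a2 : v1 q.2.1 = v q.2.1 + t * (q.2.2 * v q.1) := by rw [hv1, X_mulVec_apply, m1]
    have b1 : v2 q.1 = -(t⁻¹ * q.2.2) * v q.2.1 := by
      rw [hv2, X_mulVec_apply, m2, a1, a2]
      linear_combination (-(v q.1) * q.2.2 * q.2.2) * (inv_mul_cancel₀ ht) - v q.1 * hη2
    have b2 : v2 q.2.1 = v q.2.1 + t * (q.2.2 * v q.1) := by rw [hv2, X_mulVec_apply, m4, a2]; ring
    rw [e]
    constructor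
    · rw [X_mulVec_apply, m1, b1, b2]
      linear_combination (-(v q.2.1) * q.2.2 * q.2.2) * (mul_inv_cancel₀ ht) - v q.2.1 * hη2
    · rw [X_mulVec_apply, m3, b1]; ring
  · rw [e, X_mulVec_apply, (mv_off hr ha v2).1, hv2, X_mulVec_apply, (mv_off hr ha v1).2, hv1,
      X_mulVec_apply, (mv_off hr ha v).1]
    ring

theorem N_fix {r : ℕ} (hr : r < 72) {t : F} (ht : t ≠ 0) {b : Fin 27} (hb : Off r b) :
    (N r t : Matrix (Fin 27) (Fin 27) F) *ᵥ e b = e b := by
  obtain ⟨h1, h2⟩ := N_apply (F := F) hr ht (e b)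
  funext a
  by_cases ha : Off r a
  · exact h2 a ha
  · simp only [Off, not_forall] at ha
    obtain ⟨q, hq, ha⟩ := ha
    obtain ⟨n1, n2⟩ := hb q hq
    rcases not_and_or.1 ha with h | h <;> rw [not_ne_iff] at h <;> subst h
    · rw [(h1 q hq).2]; simp [n1, n2]
    · rw [(h1 q hq).1]; simp [n1, n2]

theorem nperm_ne {r : ℕ} (hr : r < 72) {t : F} (ht : t ≠ 0) {v : Fin 27 → F} {a : Fin 27}
    (ha : v a ≠ 0) : ((N r t : Matrix (Fin 27) (Fin 27) F) *ᵥ v) (nperm r a) ≠ 0 := by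
  obtain ⟨h1, h2⟩ := N_apply hr ht v
  have hη : ∀ q ∈ pairs r, (q.2.2 : F) ≠ 0 := fun q hq => by
    rcases (pairB ⟨r, hr⟩ q hq).1 with h | h <;> simp [h]
  set l := (pairs r).filterMap fun q =>
    if q.1 = a then some q.2.1 else if q.2.1 = a then some q.1 else none with hl
  show ((N r t : Matrix (Fin 27) (Fin 27) F) *ᵥ v) ((l.head?).getD a) ≠ 0
  cases hc : l with
  | nil =>
    have hoff : Off r a := fun q hq => by
      have := List.filterMap_eq_nil_iff.1 (hl.symm.trans hc) q hq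
      split_ifs at this with h1 h2
      exact ⟨h1, h2⟩
    simp only [List.head?_nil, Option.getD_none, h2 a hoff]
    exact ha
  | cons x xs =>
    have hx : x ∈ l := by rw [hc]; exact List.mem_cons_self
    obtain ⟨q, hq, hx⟩ := List.mem_filterMap.1 (hl ▸ hx)
    simp only [List.head?_cons, Option.getD_some]
    split_ifs at hx with h3 h4 <;> simp only [Option.some.injEq] at hx <;> subst hx
    · rw [(h1 q hq).1, h3]; exact mul_ne_zero (mul_ne_zero ht (hη q hq)) ha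
    · rw [(h1 q hq).2, h4]
      exact mul_ne_zero (neg_ne_zero.2 (mul_ne_zero (inv_ne_zero ht) (hη q hq))) ha

theorem H_apply {r : ℕ} (hr : r < 72) {t : F} (ht : t ≠ 0) (v : Fin 27 → F) (a : Fin 27) :
    ((H r t : Matrix (Fin 27) (Fin 27) F) *ᵥ v) a = t ^ pwR r a * v a := by
  have hm1 : (-1 : F) ≠ 0 := neg_ne_zero.2 one_ne_zero
  rw [H, Units.val_mul, ← mulVec_mulVec]
  obtain ⟨g1, g2⟩ := N_apply hr ht ((N r (-1 : F) : Matrix (Fin 27) (Fin 27) F) *ᵥ v)
  obtain ⟨h1, h2⟩ := N_apply (F := F) hr hm1 v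
  rw [pwR]
  split_ifs with hd hs
  · simp only [List.any_eq_true, decide_eq_true_eq] at hd
    obtain ⟨q, hq, rfl⟩ := hd
    rw [(g1 q hq).1, (h1 q hq).2, _root_.zpow_one]
    rcases (pairB ⟨r, hr⟩ q hq).1 with h | h <;> simp [h]
  · simp only [List.any_eq_true, decide_eq_true_eq] at hs
    obtain ⟨q, hq, rfl⟩ := hs
    rw [(g1 q hq).2, (h1 q hq).1, _root_.zpow_neg_one]
    rcases (pairB ⟨r, hr⟩ q hq).1 with h | h <;> simp [h]
  · simp only [List.any_eq_true, decide_eq_true_eq, not_exists, not_and] at hd hs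
    have hoff : Off r a := fun q hq => ⟨hs q hq, hd q hq⟩
    rw [g2 a hoff, h2 a hoff, _root_.zpow_zero, one_mul]

theorem N_mem (r : ℕ) (t : F) : N r t ∈ (hom F).range :=
  mul_mem (mul_mem (X_mem_range _ _) (X_mem_range _ _)) (X_mem_range _ _)

theorem H_mem (r : ℕ) (t : F) : H r t ∈ (hom F).range := mul_mem (N_mem _ _) (N_mem _ _)

end CfsgLib.E6Iso
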