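import Cfsg.Agent.Lib.E6Iso.Form
import Cfsg.Agent.Lib.OrthIso.Root
import Cfsg.Agent.Lib.Chev.CertE6

/-!
The root elements in dimension 27: they fix the cubic form and satisfy Steinberg's relations.
-/

set_option autoImplicit false

namespace CfsgLib.E6Iso

open Matrix Cfsg.Lie CfsgLib.OrthIso

variable {F : Type*} [Field F]

/-- The nilpotent map of a root. -/
def mv (r : ℕ) (v : Fin 27 → F) : Fin 27 → F :=
  ((pairs r).map fun q => ((q.2.2 : F) * v q.1) • e q.2.1).sum

/-- The matrix of a root element. -/
def rootMat (r : ℕ) (t : F) : Matrix (Fin 27) (Fin 27) F :=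
  1 + t • ((pairs r).map fun q => Matrix.single q.2.1 q.1 (q.2.2 : F)).sum

theorem rootMat_mulVec (r : ℕ) (t : F) (v : Fin 27 → F) : rootMat r t *ᵥ v = v + t • mv r v := by
  rw [rootMat, add_mulVec, one_mulVec, smul_mulVec, mv]
  congr 2
  induction pairs r with
  | nil => simp
  | cons q l ih =>
    simp only [List.map_cons, List.sum_cons, add_mulVec, ih]
    congr 1
    ext i
    by_cases h : i = q.2.1 <;> simp [Matrix.single_mulVec, Function.update, h]

theorem mv_apply (r : ℕ) (v : Fin 27 → F) (a : Fin 27) : mv r v a =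
    (((pairs r).filter fun q => decide (q.2.1 = a)).map fun q => (q.2.2 : F) * v q.1).sum := by
  rw [mv]
  induction pairs r with
  | nil => simp
  | cons q l ih =>
    rw [List.map_cons, List.sum_cons, Pi.add_apply, ih]
    by_cases h : q.2.1 = a
    · rw [List.filter_cons_of_pos (by simp [h])]
      simp [h]
    · rw [List.filter_cons_of_neg (by simp [h])]
      simp [Ne.symm h]

theorem pairs_getD_big {r : ℕ} (hr : 72 ≤ r) : pairs r = [] :=
  List.getD_eq_default _ _ (hr.trans' (le_of_eq (by decide +kernel : rootTable.length = 72)))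

theorem disjB : ∀ r : Fin 72, ∀ p ∈ pairs r, ∀ q ∈ pairs r, q.2.1 ≠ p.1 := by decide +kernel

theorem disj {r : ℕ} {p : Fin 27 × Fin 27 × ℤ} (hp : p ∈ pairs r) :
    ((pairs r).filter fun q => decide (q.2.1 = p.1)) = [] := by
  rcases lt_or_ge r 72 with h | h
  · exact List.filter_eq_nil_iff.2 fun q hq => by simpa using disjB ⟨r, h⟩ p hp q hq
  · rw [pairs_getD_big h]; rfl

theorem mv_src {r : ℕ} {p : Fin 27 × Fin 27 × ℤ} (hp : p ∈ pairs r) (v : Fin 27 → F) :
    mv r v p.1 = 0 := by rw [mv_apply, disj hp]; rfl

theorem mv_add (r : ℕ) (v w : Fin 27 → F) : mv r (v + w) = mv r v + mv r w := by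
  ext a
  simp only [Pi.add_apply, mv_apply, mul_add, List.sum_map_add]

theorem mv_smul (r : ℕ) (c : F) (v : Fin 27 → F) : mv r (c • v) = c • mv r v := by
  ext a
  simp only [Pi.smul_apply, mv_apply, smul_eq_mul, ← List.sum_map_mul_left]
  exact congrArg List.sum (List.map_congr_left fun q _ => by ring)

theorem mv_mv (r : ℕ) (v : Fin 27 → F) : mv r (mv r v) = 0 := by
  rw [mv]
  refine List.sum_eq_zero fun x hx => ?_
  obtain ⟨q, hq, rfl⟩ := List.mem_map.1 hx
  rw [mv_src hq, mul_zero, zero_smul]

theorem rootMat_mul (r : ℕ) (t u : F) : rootMat r t * rootMat r u = rootMat r (t + u) := by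
  refine Matrix.ext_of_mulVec_single fun i => ?_
  rw [← mulVec_mulVec, rootMat_mulVec, rootMat_mulVec, rootMat_mulVec, mv_add, mv_smul, mv_mv,
    smul_zero, add_zero, add_smul]
  abel

theorem rootMat_zero (r : ℕ) : rootMat r (0 : F) = 1 := by simp [rootMat]

/-- The root element. -/
def X (r : ℕ) (t : F) : GL (Fin 27) F :=
  ⟨rootMat r t, rootMat r (-t), by rw [rootMat_mul, add_neg_cancel, rootMat_zero],
    by rw [rootMat_mul, neg_add_cancel, rootMat_zero]⟩

@[simp] theorem coe_X (r : ℕ) (t : F) : (X r t : Matrix (Fin 27) (Fin 27) F) = rootMat r t := rfl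

theorem X_add (r : ℕ) (t u : F) : X r t * X r u = X r (t + u) := Units.ext (rootMat_mul r t u)

theorem X_big {r : ℕ} (hr : 72 ≤ r) (t : F) : X r t = 1 :=
  Units.ext (by simp [rootMat, pairs_getD_big hr])

/-- The possible contributions to a coordinate: source, exponent, coefficient. -/
def opts (r : ℕ) (a : Fin 27) : List (Fin 27 × ℕ × ℤ) :=
  (a, 0, 1) :: ((pairs r).filter fun q => decide (q.2.1 = a)).map fun q => (q.1, 1, q.2.2)

theorem X_apply (r : ℕ) (t : F) (v : Fin 27 → F) (a : Fin 27) :
    (rootMat r t *ᵥ v) a = ((opts r a).map fun z => (z.2.2 : F) * t ^ z.2.1 * v z.1).sum := by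
  rw [rootMat_mulVec, Pi.add_apply, Pi.smul_apply, mv_apply, opts, List.map_cons, List.sum_cons,
    List.map_map, smul_eq_mul, ← List.sum_map_mul_left]
  refine congrArg₂ (· + ·) (by simp) (congrArg List.sum (List.map_congr_left fun q _ => ?_))
  simp only [Function.comp, pow_one]
  ring

theorem prod3 {α : Type*} (c : F) (A B C : List α) (f : α → F) :
    c * ((A.map f).sum * (B.map f).sum * (C.map f).sum) =
      (A.flatMap fun x => B.flatMap fun y => C.map fun z => c * (f x * f y * f z)).sum := by
  have h2 : ∀ (d : F) (B : List α),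
      (B.flatMap fun y => C.map fun z => d * (f y * f z)).sum = d * ((B.map f).sum * (C.map f).sum) := by
    intro d B
    induction B with
    | nil => simp
    | cons y B ih =>
      rw [List.flatMap_cons, List.sum_append, ih, List.sum_map_mul_left, List.sum_map_mul_left,
        List.map_cons, List.sum_cons]
      ring
  induction A with
  | nil => simp
  | cons x A ih =>
    rw [List.flatMap_cons, List.sum_append, ← ih]
    have := h2 (c * f x) B
    simp only [mul_assoc] at this ⊢
    rw [this, List.map_cons, List.sum_cons]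
    ring

/-- A sorted triple. -/
def srt (a b c : Fin 27) : Fin 27 × Fin 27 × Fin 27 :=
  let x := if a ≤ b then (a, b) else (b, a)
  if c ≤ x.1 then (c, x.1, x.2) else if c ≤ x.2 then (x.1, c, x.2) else (x.1, x.2, c)

theorem srt_prod (v : Fin 27 → F) (a b c : Fin 27) :
    v (srt a b c).1 * v (srt a b c).2.1 * v (srt a b c).2.2 = v a * v b * v c := by
  simp only [srt]
  split_ifs <;> simp only [] <;> ring

/-- The form after a root element, as monomials in the parameter and the coordinates. -/
def expandT (r : ℕ) : List (MTerm (Fin 27 × Fin 27 × Fin 27)) :=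
  triads.flatMap fun q => (opts r q.1).flatMap fun x => (opts r q.2.1).flatMap fun y =>
    (opts r q.2.2.1).map fun z =>
      (srt x.1 y.1 z.1, x.2.1 + y.2.1 + z.2.1, 0, q.2.2.2 * x.2.2 * y.2.2 * z.2.2)

/-- The form itself as monomials. -/
def baseT : List (MTerm (Fin 27 × Fin 27 × Fin 27)) :=
  triads.map fun q => (srt q.1 q.2.1 q.2.2.1, 0, 0, q.2.2.2)

theorem expandB : ∀ r : Fin 72, sameM ((expandT r).filter fun z => z.2.1 != 0) [] = true ∧
    ((expandT r).filter fun z => !(z.2.1 != 0)) = baseT := by decide +kernel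

theorem expand_eval {r : ℕ} (hr : r < 72) (t : F) : evalM t 0 (expandT r) = evalM t 0 baseT := by
  obtain ⟨h1, h2⟩ := expandB ⟨r, hr⟩
  have key : ∀ V : List (MTerm (Fin 27 × Fin 27 × Fin 27)), evalM t 0 V =
      evalM t 0 (V.filter fun z => z.2.1 != 0) + evalM t 0 (V.filter fun z => !(z.2.1 != 0)) := by
    intro V
    induction V with
    | nil => simp [evalM]
    | cons z V ih =>
      rw [evalM_cons, ih]
      by_cases h : z.2.1 = 0
      · rw [List.filter_cons_of_neg (by simp [h]), List.filter_cons_of_pos (by simp [h]), evalM_cons]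
        abel
      · rw [List.filter_cons_of_pos (by simp [h]), List.filter_cons_of_neg (by simp [h]), evalM_cons]
        abel
  rw [key, evalM_eq_of_same t 0 h1, h2]
  simp [evalM]

/-- Evaluation of monomials. -/
def monVal (v : Fin 27 → F) (f : Fin 27 × Fin 27 × Fin 27 → F) : F :=
  ∑ x, f x * (v x.1 * v x.2.1 * v x.2.2)

theorem monVal_evalM (v : Fin 27 → F) (t : F) : ∀ V : List (MTerm (Fin 27 × Fin 27 × Fin 27)),
    monVal v (evalM t 0 V) =
      (V.map fun z => (z.2.2.2 : F) * t ^ z.2.1 * (0 : F) ^ z.2.2.1 * (v z.1.1 * v z.1.2.1 * v z.1.2.2)).sum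
  | [] => by simp [monVal, evalM]
  | z :: V => by
    rw [List.map_cons, List.sum_cons, ← monVal_evalM v t V, monVal, monVal, evalM_cons]
    simp only [Pi.add_apply, Pi.smul_apply, smul_eq_mul, add_mul, Finset.sum_add_distrib]
    congr 1
    rw [Finset.sum_eq_single z.1 (fun b _ hb => by simp [hb]) (by simp)]
    simp

theorem T27_X (r : ℕ) (t : F) (v : Fin 27 → F) : T27 (rootMat r t *ᵥ v) = T27 v := by
  rcases lt_or_ge r 72 with h | h
  swap
  · simp [rootMat, pairs_getD_big h]
  have key := congrArg (monVal v) (expand_eval (F := F) h t)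
  rw [monVal_evalM, monVal_evalM] at key
  have e1 : (baseT.map fun z => (z.2.2.2 : F) * t ^ z.2.1 * (0 : F) ^ z.2.2.1 *
      (v z.1.1 * v z.1.2.1 * v z.1.2.2)).sum = T27 v := by
    simp only [baseT, T27, triSum, List.map_map]
    exact congrArg List.sum (List.map_congr_left fun q _ => by simp [srt_prod])
  rw [e1] at key
  rw [← key]
  simp only [T27, triSum, expandT, List.map_flatMap, List.map_map]
  induction triads with
  | nil => rfl
  | cons q l ih =>
    rw [List.map_cons, List.sum_cons, ih, List.flatMap_cons, List.sum_append]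
    congr 1
    simp only [X_apply]
    rw [prod3]
    simp only [Function.comp_def, srt_prod, Int.cast_mul, pow_add, pow_zero, mul_one]
    refine congrArg List.sum ?_
    simp only [List.flatMap_def]
    refine congrArg List.flatten (List.map_congr_left fun x _ => congrArg List.flatten
      (List.map_congr_left fun y _ => List.map_congr_left fun z _ => ?_))
    ring

theorem X_mem (r : ℕ) (t : F) : X r t ∈ stab27 F := fun v => T27_X r t v

/-- The map given by a list of weighted pairs. -/
def opL (l : List (Fin 27 × Fin 27 × ℤ)) (v : Fin 27 → F) : Fin 27 → F :=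
  (l.map fun q => ((q.2.2 : F) * v q.1) • e q.2.1).sum

theorem mv_eq (r : ℕ) (v : Fin 27 → F) : mv r v = opL (pairs r) v := rfl

/-- Composition of two such lists. -/
def compL (P Q : List (Fin 27 × Fin 27 × ℤ)) : List (Fin 27 × Fin 27 × ℤ) :=
  Q.flatMap fun q => (P.filter fun p => Nat.beq p.1.val q.2.1.val).map fun p => (q.1, p.2.1, p.2.2 * q.2.2)

theorem opL_comp (P Q : List (Fin 27 × Fin 27 × ℤ)) (v : Fin 27 → F) :
    opL P (opL Q v) = opL (compL P Q) v := by
  induction Q with
  | nil => simp [opL, compL]
  | cons q Q ih =>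
    rw [compL, List.flatMap_cons, ← compL]
    simp only [opL, List.map_append, List.sum_append, List.map_cons, List.sum_cons, List.map_map,
      Pi.add_apply, mul_add, add_smul, List.sum_map_add] at ih ⊢
    rw [ih]
    congr 1
    clear ih
    induction P with
    | nil => simp
    | cons p P ihP =>
      rw [List.map_cons, List.sum_cons, ihP]
      by_cases h : p.1 = q.2.1
      · rw [List.filter_cons_of_pos (by rw [h]; exact Nat.beq_refl _), List.map_cons, List.sum_cons]
        simp [h, mul_assoc]
      · rw [List.filter_cons_of_neg (p := fun p : Fin 27 × Fin 27 × ℤ => Nat.beq p.1.val q.2.1.val)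
          (a := p) (fun hb => h (Fin.ext (Nat.eq_of_beq_eq_true hb)))]
        simp [h]

theorem opL_append (P Q : List (Fin 27 × Fin 27 × ℤ)) (v : Fin 27 → F) :
    opL (P ++ Q) v = opL P v + opL Q v := by simp [opL]

theorem opL_scale (c : ℤ) (P : List (Fin 27 × Fin 27 × ℤ)) (v : Fin 27 → F) :
    opL (P.map fun q => (q.1, q.2.1, c * q.2.2)) v = (c : F) • opL P v := by
  simp [opL, List.map_map, Function.comp_def, List.smul_sum, smul_smul, mul_assoc]

/-- The commutator relation of a pair of roots. -/
def commCheckE (r s : ℕ) : Bool :=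
  s == r || s == (CfsgLib.Chev.E6.data.row r).neg ||
    match CfsgLib.Chev.E6.data.commFast r s with
    | [] => decide ((compL (pairs s) (pairs r)).Perm (compL (pairs r) (pairs s)))
    | [(k, c, 1, 1)] =>
      (compL (pairs r) (pairs k)).isEmpty && (compL (pairs s) (pairs k)).isEmpty &&
      decide ((compL (pairs s) (pairs r) ++
        (compL (pairs r) (pairs s)).map fun q : Fin 27 × Fin 27 × ℤ => (q.1, q.2.1, -1 * q.2.2)).Perm
          ((pairs k).map fun q : Fin 27 × Fin 27 × ℤ => (q.1, q.2.1, -c * q.2.2)))
    | _ => false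

/-- Nine consecutive rows of the commutator table. -/
def commChunk (i : ℕ) : Bool :=
  (List.range 9).all fun j => (List.range 72).all fun s => commCheckE (9 * i + j) s

theorem commB0 : commChunk 0 = true := by decide +kernel

theorem commB1 : commChunk 1 = true := by decide +kernel

theorem commB2 : commChunk 2 = true := by decide +kernel

theorem commB3 : commChunk 3 = true := by decide +kernel

theorem commB4 : commChunk 4 = true := by decide +kernel

theorem commB5 : commChunk 5 = true := by decide +kernel

theorem commB6 : commChunk 6 = true := by decide +kernel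

theorem commB7 : commChunk 7 = true := by decide +kernel

theorem commB (r : Fin 72) : ((List.range 72).all fun s => commCheckE r s) = true := by
  have h : ∀ i, i < 8 → commChunk i = true := fun i hi =>
    match i, hi with
    | 0, _ => commB0
    | 1, _ => commB1
    | 2, _ => commB2
    | 3, _ => commB3
    | 4, _ => commB4
    | 5, _ => commB5
    | 6, _ => commB6
    | 7, _ => commB7
    | n + 8, hn => absurd hn (by omega)
  have := List.all_eq_true.1 (h (r.val / 9) (by omega)) (r.val % 9) (List.mem_range.2 (by omega))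
  rwa [Nat.div_add_mod] at this

/-- A product of root elements. -/
def word (w : List (ℕ × F)) : GL (Fin 27) F := (w.map fun p => X p.1 p.2).prod

theorem X_comm {r s : ℕ} (hr : r < 72) (hs : s < 72) (h1 : s ≠ r) (h2 : s ≠ chevE6.neg r) (t u : F) :
    X s u * X r t = X r t * X s u * word (chevE6.commWord F r s t u) := by
  have h := List.all_eq_true.1 (commB ⟨r, hr⟩) s (List.mem_range.2 hs)
  have hv := CfsgLib.Chev.Data.valid_spec CfsgLib.Chev.E6.valid
  have hn : CfsgLib.Chev.E6.data.n = 72 := by decide +kernel
  simp only [commCheckE, hv.neg_eq r (hn.symm ▸ hr),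
    ← hv.commTerms_eq (hn.symm ▸ hr) (hn.symm ▸ hs)] at h
  simp only [Bool.or_eq_true, beq_iff_eq, h1, h2, false_or] at h
  refine Units.ext (Matrix.ext_of_mulVec_single fun a => ?_)
  simp only [Units.val_mul, coe_X, ← mulVec_mulVec, ChevalleyDatum.commWord]
  split at h
  next heq =>
    have hp : opL (compL (pairs s) (pairs r)) (e a) = opL (compL (pairs r) (pairs s)) (e (F := F) a) :=
      ((of_decide_eq_true h).map _).sum_eq
    simp only [heq, List.map_nil, word, List.prod_nil, Units.val_one, one_mulVec, rootMat_mulVec,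
      mv_add, mv_smul]
    simp only [mv_eq, opL_comp, hp, smul_add, smul_smul, mul_comm u t]
    abel
  next k c heq =>
    simp only [Bool.and_eq_true, List.isEmpty_iff, decide_eq_true_eq] at h
    obtain ⟨⟨e1, e2⟩, e3⟩ := h
    have hp := (e3.map fun q => ((q.2.2 : F) * (e a : Fin 27 → F) q.1) • (e q.2.1 : Fin 27 → F)).sum_eq
    change opL _ _ = opL _ _ at hp
    rw [opL_append, opL_scale, opL_scale] at hp
    simp only [heq, List.map_cons, List.map_nil, word, List.prod_cons, List.prod_nil, mul_one, coe_X,
      pow_one, rootMat_mulVec, mv_add, mv_smul]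
    have hz : ∀ P : List (Fin 27 × Fin 27 × ℤ), opL P (0 : Fin 27 → F) = 0 := fun P => by simp [opL]
    have hzero : ∀ v : Fin 27 → F, opL [] v = 0 := fun _ => rfl
    simp only [mv_eq, opL_comp, smul_add, e1, e2, hzero, hz, smul_zero, add_zero, smul_smul]
    linear_combination (norm := module) (t * u) • hp
  next => exact absurd h Bool.false_ne_true

/-- The map from the group presented by (R1), (R2). -/
noncomputable def hom (F : Type*) [Field F] : chevE6.SteinbergCover F →* GL (Fin 27) F :=
  PresentedGroup.toGroup (f := fun p : Fin chevE6.nroots × F => X p.1.val p.2) (by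
    have hn : chevE6.nroots = 72 := by decide +kernel
    have hX : ∀ r t, FreeGroup.lift (fun p : Fin chevE6.nroots × F => X p.1.val p.2)
        (chevE6.stX r t) = X r t := by
      intro r t
      by_cases h : r < chevE6.nroots
      · simp [ChevalleyDatum.stX, dif_pos h]
      · rw [ChevalleyDatum.stX, dif_neg h, map_one, X_big (by omega)]
    rintro g (⟨r, t, u, hr, rfl⟩ | ⟨r, s, t, u, hr, hs, h1, h2, rfl⟩)
    · rw [map_mul, map_mul, map_inv, hX, hX, hX, X_add, mul_inv_cancel]
    · have hw : FreeGroup.lift (fun p : Fin chevE6.nroots × F => X p.1.val p.2)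
          (chevE6.stWord (chevE6.commWord F r s t u)) = word (chevE6.commWord F r s t u) := by
        rw [ChevalleyDatum.stWord, map_list_prod, List.map_map, word]
        exact congrArg List.prod (List.map_congr_left fun p _ => hX p.1 p.2)
      simp only [map_mul, map_inv, hX, hw]
      rw [mul_inv_eq_one, mul_assoc, X_comm (by omega) (by omega) h1 h2]
      group)

theorem hom_gen {r : ℕ} (hr : r < 72) (t : F) : hom F (chevE6.scGen F r t) = X r t := by
  have hn : chevE6.nroots = 72 := by decide +kernel
  rw [ChevalleyDatum.scGen, ChevalleyDatum.stX, dif_pos (hn.symm ▸ hr)]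
  exact PresentedGroup.toGroup.of _

theorem X_mem_range (r : ℕ) (t : F) : X r t ∈ (hom F).range := by
  rcases lt_or_ge r 72 with h | h
  · exact ⟨_, hom_gen h t⟩
  · rw [X_big h]; exact one_mem _

theorem hom_range_le : (hom F).range ≤ stab27 F := by
  rw [MonoidHom.range_eq_map, ← PresentedGroup.closure_range_of, MonoidHom.map_closure,
    Subgroup.closure_le]
  rintro _ ⟨_, ⟨⟨r, t⟩, rfl⟩, rfl⟩
  rw [show hom F (PresentedGroup.of (r, t)) = X r.val t from PresentedGroup.toGroup.of _]
  exact X_mem r.val t

end CfsgLib.E6Iso
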