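import Cfsg.Prelude.Def_E6

/-!
The cubic form in 27 variables as a list of monomials, and the tables of the 27-dimensional
representation of type E6 on it.
-/

set_option autoImplicit false

namespace CfsgLib.E6Iso

/-- A signed monomial. -/
abbrev Tri := Fin 27 × Fin 27 × Fin 27 × ℤ

/-- The monomials of the form. -/
def triads : List Tri :=
  [
    (0, 4, 8, 1), (0, 5, 7, -1), (1, 3, 8, -1), (1, 5, 6, 1), (2, 3, 7, 1), (2, 4, 6, -1),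
    (9, 13, 17, 1), (9, 14, 16, -1), (10, 12, 17, -1), (10, 14, 15, 1), (11, 12, 16, 1),
    (11, 13, 15, -1), (18, 22, 26, 1), (18, 23, 25, -1), (19, 21, 26, -1), (19, 23, 24, 1),
    (20, 21, 25, 1), (20, 22, 24, -1), (0, 9, 18, -1), (0, 10, 21, -1), (0, 11, 24, -1),
    (1, 12, 18, -1), (1, 13, 21, -1), (1, 14, 24, -1), (2, 15, 18, -1), (2, 16, 21, -1),
    (2, 17, 24, -1), (3, 9, 19, -1), (3, 10, 22, -1), (3, 11, 25, -1), (4, 12, 19, -1),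
    (4, 13, 22, -1), (4, 14, 25, -1), (5, 15, 19, -1), (5, 16, 22, -1), (5, 17, 25, -1),
    (6, 9, 20, -1), (6, 10, 23, -1), (6, 11, 26, -1), (7, 12, 20, -1), (7, 13, 23, -1),
    (7, 14, 26, -1), (8, 15, 20, -1), (8, 16, 23, -1), (8, 17, 26, -1)
  ]

/-- For each root, the pairs moved by it, as source, target, sign. -/
def rootTable : List (List (Fin 27 × Fin 27 × ℤ)) :=
  [
    [(0, 6, 1), (1, 7, 1), (2, 8, 1), (20, 18, -1), (23, 21, -1), (26, 24, -1)],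
    [(2, 25, 1), (5, 24, -1), (11, 7, 1), (14, 6, -1), (20, 16, 1), (23, 15, -1)],
    [(0, 15, -1), (2, 9, 1), (13, 24, 1), (14, 21, -1), (19, 7, 1), (20, 4, -1)],
    [(0, 16, 1), (2, 10, -1), (12, 24, 1), (14, 18, -1), (22, 7, -1), (23, 4, 1)],
    [(0, 25, -1), (3, 24, 1), (14, 8, -1), (17, 7, 1), (20, 10, -1), (23, 9, 1)],
    [(2, 22, -1), (5, 21, 1), (10, 7, -1), (13, 6, 1), (20, 17, 1), (26, 15, -1)],
    [(2, 19, -1), (5, 18, 1), (9, 7, -1), (12, 6, 1), (23, 17, -1), (26, 16, 1)],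
    [(3, 6, 1), (4, 7, 1), (5, 8, 1), (20, 19, -1), (23, 22, -1), (26, 25, -1)],
    [(0, 17, -1), (2, 11, 1), (12, 21, 1), (13, 18, -1), (25, 7, 1), (26, 4, -1)],
    [(0, 22, -1), (3, 21, 1), (13, 8, -1), (16, 7, 1), (20, 11, 1), (26, 9, -1)],
    [(0, 19, -1), (3, 18, 1), (12, 8, -1), (15, 7, 1), (23, 11, -1), (26, 10, 1)],
    [(2, 1, -1), (5, 4, -1), (8, 7, -1), (12, 15, 1), (13, 16, 1), (14, 17, 1)],
    [(3, 15, 1), (5, 9, -1), (13, 25, -1), (14, 22, 1), (18, 7, 1), (20, 1, -1)],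
    [(3, 16, -1), (5, 10, 1), (12, 25, -1), (14, 19, 1), (21, 7, -1), (23, 1, 1)],
    [(0, 1, 1), (3, 4, 1), (6, 7, 1), (12, 9, -1), (13, 10, -1), (14, 11, -1)],
    [(3, 17, -1), (5, 11, 1), (12, 22, 1), (13, 19, -1), (24, 7, -1), (26, 1, 1)],
    [(1, 15, 1), (2, 12, -1), (10, 24, 1), (11, 21, -1), (19, 6, 1), (20, 3, -1)],
    [(1, 16, -1), (2, 13, 1), (9, 24, 1), (11, 18, -1), (22, 6, -1), (23, 3, 1)],
    [(1, 25, 1), (4, 24, -1), (11, 8, -1), (17, 6, 1), (20, 13, 1), (23, 12, -1)],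
    [(0, 3, 1), (1, 4, 1), (2, 5, 1), (19, 18, -1), (22, 21, -1), (25, 24, -1)],
    [(0, 12, -1), (1, 9, 1), (16, 24, -1), (17, 21, 1), (19, 8, -1), (20, 5, 1)],
    [(0, 13, 1), (1, 10, -1), (15, 24, -1), (17, 18, 1), (22, 8, 1), (23, 5, -1)],
    [(1, 17, -1), (2, 14, 1), (9, 21, -1), (10, 18, 1), (25, 6, -1), (26, 3, 1)],
    [(1, 22, -1), (4, 21, 1), (10, 8, 1), (16, 6, -1), (20, 14, 1), (26, 12, -1)],
    [(1, 19, -1), (4, 18, 1), (9, 8, 1), (15, 6, -1), (23, 14, -1), (26, 13, 1)],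
    [(0, 14, -1), (1, 11, 1), (15, 21, -1), (16, 18, 1), (25, 8, -1), (26, 5, 1)],
    [(2, 26, -1), (8, 24, 1), (11, 4, 1), (14, 3, -1), (19, 16, 1), (22, 15, -1)],
    [(11, 9, 1), (14, 12, 1), (17, 15, 1), (18, 24, -1), (19, 25, -1), (20, 26, -1)],
    [(11, 10, -1), (14, 13, -1), (17, 16, -1), (21, 24, 1), (22, 25, 1), (23, 26, 1)],
    [(0, 26, 1), (6, 24, -1), (14, 5, -1), (17, 4, 1), (19, 10, -1), (22, 9, 1)],
    [(2, 0, -1), (5, 3, -1), (8, 6, -1), (9, 15, 1), (10, 16, 1), (11, 17, 1)],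
    [(4, 15, -1), (5, 12, 1), (10, 25, -1), (11, 22, 1), (18, 6, 1), (20, 0, -1)],
    [(4, 16, 1), (5, 13, -1), (9, 25, -1), (11, 19, 1), (21, 6, -1), (23, 0, 1)],
    [(2, 23, -1), (8, 21, 1), (10, 4, 1), (13, 3, -1), (19, 17, -1), (25, 15, 1)],
    [(10, 9, 1), (13, 12, 1), (16, 15, 1), (18, 21, -1), (19, 22, -1), (20, 23, -1)],
    [(2, 20, 1), (8, 18, -1), (9, 4, -1), (12, 3, 1), (22, 17, -1), (25, 16, 1)],
    [(3, 12, 1), (4, 9, -1), (16, 25, 1), (17, 22, -1), (18, 8, -1), (20, 2, 1)],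
    [(9, 10, 1), (12, 13, 1), (15, 16, 1), (21, 18, -1), (22, 19, -1), (23, 20, -1)],
    [(3, 13, -1), (4, 10, 1), (15, 25, 1), (17, 19, -1), (21, 8, 1), (23, 2, -1)],
    [(0, 23, 1), (6, 21, -1), (13, 5, -1), (16, 4, 1), (19, 11, 1), (25, 9, -1)],
    [(0, 20, -1), (6, 18, 1), (12, 5, 1), (15, 4, -1), (22, 11, 1), (25, 10, -1)],
    [(0, 2, -1), (3, 5, -1), (6, 8, -1), (15, 9, 1), (16, 10, 1), (17, 11, 1)],
    [(4, 17, 1), (5, 14, -1), (9, 22, 1), (10, 19, -1), (24, 6, -1), (26, 0, 1)],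
    [(10, 11, -1), (13, 14, -1), (16, 17, -1), (24, 21, 1), (25, 22, 1), (26, 23, 1)],
    [(9, 11, 1), (12, 14, 1), (15, 17, 1), (24, 18, -1), (25, 19, -1), (26, 20, -1)],
    [(3, 14, -1), (4, 11, 1), (15, 22, -1), (16, 19, 1), (24, 8, 1), (26, 2, -1)],
    [(5, 26, 1), (8, 25, -1), (11, 1, 1), (14, 0, -1), (18, 16, 1), (21, 15, -1)],
    [(6, 15, -1), (8, 9, 1), (13, 26, 1), (14, 23, -1), (18, 4, 1), (19, 1, -1)],
    [(6, 16, -1), (8, 10, 1), (12, 26, -1), (14, 20, 1), (21, 4, 1), (22, 1, -1)],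
    [(3, 26, 1), (6, 25, -1), (14, 2, 1), (17, 1, -1), (18, 10, 1), (21, 9, -1)],
    [(5, 23, -1), (8, 22, 1), (10, 1, -1), (13, 0, 1), (18, 17, 1), (24, 15, -1)],
    [(5, 20, 1), (8, 19, -1), (9, 1, 1), (12, 0, -1), (21, 17, 1), (24, 16, -1)],
    [(3, 0, 1), (4, 1, 1), (5, 2, 1), (18, 19, -1), (21, 22, -1), (24, 25, -1)],
    [(6, 17, 1), (8, 11, -1), (12, 23, -1), (13, 20, 1), (24, 4, -1), (25, 1, 1)],
    [(3, 23, 1), (6, 22, -1), (13, 2, 1), (16, 1, -1), (18, 11, -1), (24, 9, 1)],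
    [(3, 20, -1), (6, 19, 1), (12, 2, -1), (15, 1, 1), (21, 11, -1), (24, 10, 1)],
    [(1, 26, 1), (7, 24, -1), (11, 5, 1), (17, 3, -1), (19, 13, -1), (22, 12, 1)],
    [(1, 0, 1), (4, 3, 1), (7, 6, 1), (9, 12, -1), (10, 13, -1), (11, 14, -1)],
    [(1, 23, 1), (7, 21, -1), (10, 5, 1), (16, 3, -1), (19, 14, 1), (25, 12, -1)],
    [(1, 20, -1), (7, 18, 1), (9, 5, -1), (15, 3, 1), (22, 14, 1), (25, 13, -1)],
    [(1, 2, -1), (4, 5, -1), (7, 8, -1), (15, 12, 1), (16, 13, 1), (17, 14, 1)],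
    [(7, 15, 1), (8, 12, -1), (10, 26, 1), (11, 23, -1), (18, 3, 1), (19, 0, -1)],
    [(7, 16, 1), (8, 13, -1), (9, 26, -1), (11, 20, 1), (21, 3, 1), (22, 0, -1)],
    [(4, 26, -1), (7, 25, 1), (11, 2, 1), (17, 0, -1), (18, 13, -1), (21, 12, 1)],
    [(6, 3, 1), (7, 4, 1), (8, 5, 1), (19, 20, -1), (22, 23, -1), (25, 26, -1)],
    [(6, 12, 1), (7, 9, -1), (16, 26, 1), (17, 23, -1), (18, 5, 1), (19, 2, -1)],
    [(6, 13, 1), (7, 10, -1), (15, 26, -1), (17, 20, 1), (21, 5, 1), (22, 2, -1)],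
    [(7, 17, 1), (8, 14, -1), (9, 23, 1), (10, 20, -1), (24, 3, 1), (25, 0, -1)],
    [(4, 23, 1), (7, 22, -1), (10, 2, -1), (16, 0, 1), (18, 14, -1), (24, 12, 1)],
    [(4, 20, -1), (7, 19, 1), (9, 2, 1), (15, 0, -1), (21, 14, -1), (24, 13, 1)],
    [(6, 14, -1), (7, 11, 1), (15, 23, -1), (16, 20, 1), (24, 5, -1), (25, 2, 1)],
    [(6, 0, 1), (7, 1, 1), (8, 2, 1), (18, 20, -1), (21, 23, -1), (24, 26, -1)]
  ]

/-- The pairs of a root. -/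
def pairs (r : ℕ) : List (Fin 27 × Fin 27 × ℤ) := rootTable.getD r []

/-- One step of the reduction of a stabiliser element. -/
structure Step where
  a : Fin 27
  wit : Option (Fin 27)
  wit2 : Option (Fin 27 × Fin 27)
  moves : List (Fin 27 × List ℕ)
  scale : Option ℕ
  clear : List (ℕ × Fin 27)
  cert : List (Fin 27 × Fin 27 × Fin 27 × Fin 27)
  forced : List (Fin 27 × Fin 27)

/-- The generic steps. -/
def steps : List Step :=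
  [
    ⟨2, none, none,
      [(0, [30]),
       (1, [11]),
       (2, []),
       (3, [16, 35]),
       (4, [2, 35]),
       (5, [19]),
       (6, [0, 30]),
       (7, [0, 11]),
       (8, [0]),
       (9, [2]),
       (10, [3]),
       (11, [8]),
       (12, [16]),
       (13, [17]),
       (14, [22]),
       (15, [1, 33]),
       (16, [1, 35]),
       (17, [5, 35]),
       (18, [0, 35]),
       (19, [6]),
       (20, [35]),
       (21, [0, 33]),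
       (22, [5]),
       (23, [33]),
       (24, [0, 26]),
       (25, [1]),
       (26, [26])],
      some 0,
      [(0, 8), (1, 25), (2, 9), (3, 10), (5, 22), (6, 19), (8, 11), (11, 1), (16, 12), (17, 13), (19, 5), (22, 14), (26, 26), (30, 0), (33, 23), (35, 20)],
      [
       
      ],
      [(3, 7), (4, 6), (6, 4), (7, 3), (15, 18), (16, 21), (17, 24), (18, 15), (21, 16), (24, 17)]⟩,
    ⟨3, some 2, none,
      [(3, []),
       (4, [14]),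
       (6, [7]),
       (7, [4, 15]),
       (15, [12]),
       (16, [13]),
       (17, [15]),
       (18, [10]),
       (21, [9]),
       (24, [4])],
      some 4,
      [(4, 24), (7, 6), (9, 21), (10, 18), (12, 15), (13, 16), (14, 4), (15, 17), (36, 12), (38, 13), (41, 5), (45, 14), (49, 26), (52, 0), (54, 23), (55, 20)],
      [
       
      ],
      [(1, 8), (2, 7), (7, 2), (8, 1), (9, 19), (10, 22), (11, 25), (19, 9), (22, 10), (25, 11)]⟩,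
    ⟨7, none, some (2, 3),
      [],
      none,
      [(56, 24), (57, 6), (58, 21), (59, 18), (60, 8), (61, 15), (62, 16), (63, 25), (64, 4), (65, 9), (66, 10), (67, 17), (68, 22), (69, 19), (70, 11), (71, 1)],
      [
       
      ],
      [(0, 5), (2, 3), (3, 2), (5, 0), (12, 20), (13, 23), (14, 26), (20, 12), (23, 13), (26, 14)]⟩,
    ⟨4, some 2, none,
      [(4, []),
       (6, [18, 29]),
       (15, [31]),
       (16, [32]),
       (17, [29]),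
       (18, [24]),
       (21, [23]),
       (24, [18])],
      some 18,
      [(18, 24), (23, 21), (24, 18), (31, 15), (32, 16), (42, 17)],
      [
        (0, 7, 7, 5), (1, 3, 3, 8), (2, 3, 3, 7), (3, 7, 7, 2), (5, 7, 7, 0), (7, 3, 3, 2),
        (8, 3, 3, 1), (9, 3, 3, 19), (10, 3, 3, 22), (11, 3, 3, 25), (12, 7, 7, 20),
        (13, 7, 7, 23), (14, 7, 7, 26), (19, 3, 3, 9), (20, 7, 7, 12), (22, 3, 3, 10),
        (23, 7, 7, 13), (25, 3, 3, 11), (26, 7, 7, 14)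
      ],
      [(2, 6)]⟩,
    ⟨6, none, some (2, 4),
      [],
      none,
      [(29, 24), (39, 21), (40, 18), (47, 15), (48, 16), (53, 17)],
      [
        (0, 7, 7, 5), (1, 3, 3, 8), (2, 3, 3, 7), (3, 7, 7, 2), (5, 7, 7, 0), (7, 3, 3, 2),
        (8, 3, 3, 1), (9, 3, 3, 19), (10, 3, 3, 22), (11, 3, 3, 25), (12, 7, 7, 20),
        (13, 7, 7, 23), (14, 7, 7, 26), (19, 3, 3, 9), (20, 7, 7, 12), (22, 3, 3, 10),
        (23, 7, 7, 13), (25, 3, 3, 11), (26, 7, 7, 14)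
      ],
      [(2, 4)]⟩,
    ⟨15, some 2, none,
      [(15, []),
       (16, [34]),
       (17, [27]),
       (18, [21, 27]),
       (21, [25]),
       (24, [21])],
      some 21,
      [(21, 24), (25, 21), (37, 16), (44, 17)],
      [
        (0, 7, 7, 5), (1, 3, 3, 8), (2, 3, 3, 7), (3, 7, 7, 2), (4, 6, 6, 2), (5, 7, 7, 0),
        (6, 4, 4, 2), (7, 3, 3, 2), (8, 3, 3, 1), (9, 3, 3, 19), (10, 3, 3, 22), (11, 3, 3, 25),
        (12, 7, 7, 20), (13, 7, 7, 23), (14, 7, 7, 26), (19, 3, 3, 9), (20, 7, 7, 12),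
        (22, 3, 3, 10), (23, 7, 7, 13), (25, 3, 3, 11), (26, 7, 7, 14)
      ],
      [(2, 18)]⟩,
    ⟨18, none, some (2, 15),
      [],
      none,
      [(27, 24), (34, 21), (46, 16), (50, 17)],
      [
        (0, 7, 7, 5), (1, 3, 3, 8), (2, 3, 3, 7), (3, 7, 7, 2), (4, 6, 6, 2), (5, 7, 7, 0),
        (6, 4, 4, 2), (7, 3, 3, 2), (8, 3, 3, 1), (9, 3, 3, 19), (10, 3, 3, 22), (11, 3, 3, 25),
        (12, 7, 7, 20), (13, 7, 7, 23), (14, 7, 7, 26), (19, 3, 3, 9), (20, 7, 7, 12),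
        (22, 3, 3, 10), (23, 7, 7, 13), (25, 3, 3, 11), (26, 7, 7, 14)
      ],
      [(2, 15)]⟩,
    ⟨16, some 2, none,
      [(16, []),
       (17, [28]),
       (21, [20, 28]),
       (24, [20])],
      some 20,
      [(20, 24), (43, 17)],
      [
        (0, 7, 7, 5), (1, 3, 3, 8), (2, 3, 3, 7), (3, 7, 7, 2), (4, 6, 6, 2), (5, 7, 7, 0),
        (6, 4, 4, 2), (7, 3, 3, 2), (8, 3, 3, 1), (9, 3, 3, 19), (10, 3, 3, 22), (11, 3, 3, 25),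
        (12, 7, 7, 20), (13, 7, 7, 23), (14, 7, 7, 26), (15, 18, 18, 2), (18, 15, 15, 2),
        (19, 3, 3, 9), (20, 7, 7, 12), (22, 3, 3, 10), (23, 7, 7, 13), (25, 3, 3, 11),
        (26, 7, 7, 14)
      ],
      [(2, 21)]⟩,
    ⟨21, none, some (2, 16),
      [],
      none,
      [(28, 24), (51, 17)],
      [
        (0, 7, 7, 5), (1, 3, 3, 8), (2, 3, 3, 7), (3, 7, 7, 2), (4, 6, 6, 2), (5, 7, 7, 0),
        (6, 4, 4, 2), (7, 3, 3, 2), (8, 3, 3, 1), (9, 3, 3, 19), (10, 3, 3, 22), (11, 3, 3, 25),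
        (12, 7, 7, 20), (13, 7, 7, 23), (14, 7, 7, 26), (15, 18, 18, 2), (18, 15, 15, 2),
        (19, 3, 3, 9), (20, 7, 7, 12), (22, 3, 3, 10), (23, 7, 7, 13), (25, 3, 3, 11),
        (26, 7, 7, 14)
      ],
      [(2, 16)]⟩
  ]

/-- Vanishing coordinates of the image of the last first vector. -/
def certX : List (Fin 27 × Fin 27 × Fin 27 × Fin 27) :=
  [
    (0, 7, 7, 5), (1, 3, 3, 8), (2, 3, 3, 7), (3, 7, 7, 2), (4, 6, 6, 2), (5, 7, 7, 0),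
    (6, 4, 4, 2), (7, 3, 3, 2), (8, 3, 3, 1), (9, 3, 3, 19), (10, 3, 3, 22), (11, 3, 3, 25),
    (12, 7, 7, 20), (13, 7, 7, 23), (14, 7, 7, 26), (15, 18, 18, 2), (16, 21, 21, 2),
    (18, 15, 15, 2), (19, 3, 3, 9), (20, 7, 7, 12), (21, 16, 16, 2), (22, 3, 3, 10),
    (23, 7, 7, 13), (25, 3, 3, 11), (26, 7, 7, 14)
  ]

/-- Vanishing coordinates of the image of the last second vector. -/
def certY : List (Fin 27 × Fin 27 × Fin 27 × Fin 27) :=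
  [
    (0, 7, 7, 5), (1, 3, 3, 8), (2, 3, 3, 7), (3, 7, 7, 2), (4, 6, 6, 2), (5, 7, 7, 0),
    (6, 4, 4, 2), (7, 3, 3, 2), (8, 3, 3, 1), (9, 3, 3, 19), (10, 3, 3, 22), (11, 3, 3, 25),
    (12, 7, 7, 20), (13, 7, 7, 23), (14, 7, 7, 26), (15, 18, 18, 2), (16, 21, 21, 2),
    (18, 15, 15, 2), (19, 3, 3, 9), (20, 7, 7, 12), (21, 16, 16, 2), (22, 3, 3, 10),
    (23, 7, 7, 13), (25, 3, 3, 11), (26, 7, 7, 14)
  ]

/-- A vanishing image if the last pair were swapped. -/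
def certBad : List (Fin 27 × Fin 27 × Fin 27 × Fin 27) :=
  [
    (0, 17, 24, 11), (1, 3, 3, 8), (2, 3, 3, 7), (3, 2, 2, 7), (4, 2, 2, 6), (5, 6, 6, 1),
    (6, 2, 2, 4), (7, 2, 2, 3), (8, 3, 3, 1), (9, 3, 3, 19), (10, 3, 3, 22), (11, 3, 3, 25),
    (12, 16, 16, 11), (13, 15, 15, 11), (14, 15, 15, 10), (15, 2, 2, 18), (16, 2, 2, 21),
    (17, 2, 2, 24), (18, 2, 2, 15), (19, 3, 3, 9), (20, 6, 6, 9), (21, 2, 2, 16), (22, 3, 3, 10),
    (23, 6, 6, 10), (24, 2, 2, 17), (25, 3, 3, 11), (26, 6, 6, 11)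
  ]

/-- For each remaining coordinate, the vanishing coordinates of its image. -/
def certDiag : List (Fin 27 × List (Fin 27 × Fin 27 × Fin 27 × Fin 27)) :=
  [
    (0, [
       (1, 3, 3, 8), (2, 3, 3, 7), (3, 2, 2, 7), (4, 2, 2, 6), (5, 6, 6, 1), (6, 2, 2, 4),
       (7, 2, 2, 3), (8, 3, 3, 1), (9, 3, 3, 19), (10, 3, 3, 22), (11, 3, 3, 25),
       (12, 16, 16, 11), (13, 15, 15, 11), (14, 15, 15, 10), (15, 2, 2, 18), (16, 2, 2, 21),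
       (17, 2, 2, 24), (18, 2, 2, 15), (19, 3, 3, 9), (20, 6, 6, 9), (21, 2, 2, 16),
       (22, 3, 3, 10), (23, 6, 6, 10), (24, 2, 2, 17), (25, 3, 3, 11), (26, 6, 6, 11)]),
    (1, [
       (0, 7, 7, 5), (2, 7, 7, 3), (3, 2, 2, 7), (4, 2, 2, 6), (5, 7, 7, 0), (6, 2, 2, 4),
       (7, 2, 2, 3), (8, 4, 4, 0), (9, 16, 16, 14), (10, 15, 15, 14), (11, 15, 15, 13),
       (12, 7, 7, 20), (13, 7, 7, 23), (14, 7, 7, 26), (15, 2, 2, 18), (16, 2, 2, 21),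
       (17, 2, 2, 24), (18, 2, 2, 15), (19, 4, 4, 12), (20, 7, 7, 12), (21, 2, 2, 16),
       (22, 4, 4, 13), (23, 7, 7, 13), (24, 2, 2, 17), (25, 4, 4, 14), (26, 7, 7, 14)]),
    (5, [
       (0, 4, 4, 8), (1, 3, 3, 8), (2, 3, 3, 7), (3, 2, 2, 7), (4, 2, 2, 6), (6, 2, 2, 4),
       (7, 2, 2, 3), (8, 3, 3, 1), (9, 3, 3, 19), (10, 3, 3, 22), (11, 3, 3, 25), (12, 4, 4, 19),
       (13, 4, 4, 22), (14, 4, 4, 25), (15, 2, 2, 18), (16, 2, 2, 21), (17, 2, 2, 24),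
       (18, 2, 2, 15), (19, 3, 3, 9), (20, 21, 21, 25), (21, 2, 2, 16), (22, 3, 3, 10),
       (23, 18, 18, 25), (24, 2, 2, 17), (25, 3, 3, 11), (26, 18, 18, 22)]),
    (8, [
       (0, 7, 7, 5), (1, 6, 6, 5), (2, 7, 7, 3), (3, 2, 2, 7), (4, 2, 2, 6), (5, 7, 7, 0),
       (6, 2, 2, 4), (7, 2, 2, 3), (9, 6, 6, 20), (10, 6, 6, 23), (11, 6, 6, 26), (12, 7, 7, 20),
       (13, 7, 7, 23), (14, 7, 7, 26), (15, 2, 2, 18), (16, 2, 2, 21), (17, 2, 2, 24),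
       (18, 2, 2, 15), (19, 21, 21, 26), (20, 7, 7, 12), (21, 2, 2, 16), (22, 18, 18, 26),
       (23, 7, 7, 13), (24, 2, 2, 17), (25, 18, 18, 23), (26, 7, 7, 14)]),
    (9, [
       (0, 7, 7, 5), (1, 21, 21, 13), (2, 7, 7, 3), (3, 2, 2, 7), (4, 2, 2, 6), (5, 7, 7, 0),
       (6, 2, 2, 4), (7, 2, 2, 3), (8, 4, 4, 0), (10, 15, 15, 14), (11, 15, 15, 13),
       (12, 7, 7, 20), (13, 7, 7, 23), (14, 7, 7, 26), (15, 2, 2, 18), (16, 2, 2, 21),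
       (17, 2, 2, 24), (18, 2, 2, 15), (19, 4, 4, 12), (20, 7, 7, 12), (21, 2, 2, 16),
       (22, 4, 4, 13), (23, 7, 7, 13), (24, 2, 2, 17), (25, 4, 4, 14), (26, 7, 7, 14)]),
    (10, [
       (0, 7, 7, 5), (1, 18, 18, 12), (2, 7, 7, 3), (3, 2, 2, 7), (4, 2, 2, 6), (5, 7, 7, 0),
       (6, 2, 2, 4), (7, 2, 2, 3), (8, 4, 4, 0), (9, 18, 18, 0), (11, 16, 16, 12), (12, 7, 7, 20),
       (13, 7, 7, 23), (14, 7, 7, 26), (15, 2, 2, 18), (16, 2, 2, 21), (17, 2, 2, 24),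
       (18, 2, 2, 15), (19, 4, 4, 12), (20, 7, 7, 12), (21, 2, 2, 16), (22, 4, 4, 13),
       (23, 7, 7, 13), (24, 2, 2, 17), (25, 4, 4, 14), (26, 7, 7, 14)]),
    (11, [
       (0, 7, 7, 5), (1, 18, 18, 12), (2, 7, 7, 3), (3, 2, 2, 7), (4, 2, 2, 6), (5, 7, 7, 0),
       (6, 2, 2, 4), (7, 2, 2, 3), (8, 4, 4, 0), (9, 18, 18, 0), (10, 21, 21, 0), (12, 7, 7, 20),
       (13, 7, 7, 23), (14, 7, 7, 26), (15, 2, 2, 18), (16, 2, 2, 21), (17, 2, 2, 24),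
       (18, 2, 2, 15), (19, 4, 4, 12), (20, 7, 7, 12), (21, 2, 2, 16), (22, 4, 4, 13),
       (23, 7, 7, 13), (24, 2, 2, 17), (25, 4, 4, 14), (26, 7, 7, 14)]),
    (12, [
       (0, 21, 21, 10), (1, 3, 3, 8), (2, 3, 3, 7), (3, 2, 2, 7), (4, 2, 2, 6), (5, 6, 6, 1),
       (6, 2, 2, 4), (7, 2, 2, 3), (8, 3, 3, 1), (9, 3, 3, 19), (10, 3, 3, 22), (11, 3, 3, 25),
       (13, 15, 15, 11), (14, 15, 15, 10), (15, 2, 2, 18), (16, 2, 2, 21), (17, 2, 2, 24),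
       (18, 2, 2, 15), (19, 3, 3, 9), (20, 6, 6, 9), (21, 2, 2, 16), (22, 3, 3, 10),
       (23, 6, 6, 10), (24, 2, 2, 17), (25, 3, 3, 11), (26, 6, 6, 11)]),
    (13, [
       (0, 18, 18, 9), (1, 3, 3, 8), (2, 3, 3, 7), (3, 2, 2, 7), (4, 2, 2, 6), (5, 6, 6, 1),
       (6, 2, 2, 4), (7, 2, 2, 3), (8, 3, 3, 1), (9, 3, 3, 19), (10, 3, 3, 22), (11, 3, 3, 25),
       (12, 18, 18, 1), (14, 16, 16, 9), (15, 2, 2, 18), (16, 2, 2, 21), (17, 2, 2, 24),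
       (18, 2, 2, 15), (19, 3, 3, 9), (20, 6, 6, 9), (21, 2, 2, 16), (22, 3, 3, 10),
       (23, 6, 6, 10), (24, 2, 2, 17), (25, 3, 3, 11), (26, 6, 6, 11)]),
    (14, [
       (0, 18, 18, 9), (1, 3, 3, 8), (2, 3, 3, 7), (3, 2, 2, 7), (4, 2, 2, 6), (5, 6, 6, 1),
       (6, 2, 2, 4), (7, 2, 2, 3), (8, 3, 3, 1), (9, 3, 3, 19), (10, 3, 3, 22), (11, 3, 3, 25),
       (12, 18, 18, 1), (13, 21, 21, 1), (15, 2, 2, 18), (16, 2, 2, 21), (17, 2, 2, 24),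
       (18, 2, 2, 15), (19, 3, 3, 9), (20, 6, 6, 9), (21, 2, 2, 16), (22, 3, 3, 10),
       (23, 6, 6, 10), (24, 2, 2, 17), (25, 3, 3, 11), (26, 6, 6, 11)]),
    (19, [
       (0, 7, 7, 5), (1, 6, 6, 5), (2, 7, 7, 3), (3, 2, 2, 7), (4, 2, 2, 6), (5, 7, 7, 0),
       (6, 2, 2, 4), (7, 2, 2, 3), (8, 16, 16, 23), (9, 6, 6, 20), (10, 6, 6, 23), (11, 6, 6, 26),
       (12, 7, 7, 20), (13, 7, 7, 23), (14, 7, 7, 26), (15, 2, 2, 18), (16, 2, 2, 21),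
       (17, 2, 2, 24), (18, 2, 2, 15), (20, 7, 7, 12), (21, 2, 2, 16), (22, 18, 18, 26),
       (23, 7, 7, 13), (24, 2, 2, 17), (25, 18, 18, 23), (26, 7, 7, 14)]),
    (20, [
       (0, 4, 4, 8), (1, 3, 3, 8), (2, 3, 3, 7), (3, 2, 2, 7), (4, 2, 2, 6), (5, 16, 16, 22),
       (6, 2, 2, 4), (7, 2, 2, 3), (8, 3, 3, 1), (9, 3, 3, 19), (10, 3, 3, 22), (11, 3, 3, 25),
       (12, 4, 4, 19), (13, 4, 4, 22), (14, 4, 4, 25), (15, 2, 2, 18), (16, 2, 2, 21),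
       (17, 2, 2, 24), (18, 2, 2, 15), (19, 3, 3, 9), (21, 2, 2, 16), (22, 3, 3, 10),
       (23, 18, 18, 25), (24, 2, 2, 17), (25, 3, 3, 11), (26, 18, 18, 22)]),
    (22, [
       (0, 7, 7, 5), (1, 6, 6, 5), (2, 7, 7, 3), (3, 2, 2, 7), (4, 2, 2, 6), (5, 7, 7, 0),
       (6, 2, 2, 4), (7, 2, 2, 3), (8, 15, 15, 20), (9, 6, 6, 20), (10, 6, 6, 23), (11, 6, 6, 26),
       (12, 7, 7, 20), (13, 7, 7, 23), (14, 7, 7, 26), (15, 2, 2, 18), (16, 2, 2, 21),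
       (17, 2, 2, 24), (18, 2, 2, 15), (19, 15, 15, 5), (20, 7, 7, 12), (21, 2, 2, 16),
       (23, 7, 7, 13), (24, 2, 2, 17), (25, 21, 21, 20), (26, 7, 7, 14)]),
    (23, [
       (0, 4, 4, 8), (1, 3, 3, 8), (2, 3, 3, 7), (3, 2, 2, 7), (4, 2, 2, 6), (5, 15, 15, 19),
       (6, 2, 2, 4), (7, 2, 2, 3), (8, 3, 3, 1), (9, 3, 3, 19), (10, 3, 3, 22), (11, 3, 3, 25),
       (12, 4, 4, 19), (13, 4, 4, 22), (14, 4, 4, 25), (15, 2, 2, 18), (16, 2, 2, 21),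
       (17, 2, 2, 24), (18, 2, 2, 15), (19, 3, 3, 9), (20, 15, 15, 8), (21, 2, 2, 16),
       (22, 3, 3, 10), (24, 2, 2, 17), (25, 3, 3, 11), (26, 21, 21, 19)]),
    (25, [
       (0, 7, 7, 5), (1, 6, 6, 5), (2, 7, 7, 3), (3, 2, 2, 7), (4, 2, 2, 6), (5, 7, 7, 0),
       (6, 2, 2, 4), (7, 2, 2, 3), (8, 15, 15, 20), (9, 6, 6, 20), (10, 6, 6, 23), (11, 6, 6, 26),
       (12, 7, 7, 20), (13, 7, 7, 23), (14, 7, 7, 26), (15, 2, 2, 18), (16, 2, 2, 21),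
       (17, 2, 2, 24), (18, 2, 2, 15), (19, 15, 15, 5), (20, 7, 7, 12), (21, 2, 2, 16),
       (22, 16, 16, 5), (23, 7, 7, 13), (24, 2, 2, 17), (26, 7, 7, 14)]),
    (26, [
       (0, 4, 4, 8), (1, 3, 3, 8), (2, 3, 3, 7), (3, 2, 2, 7), (4, 2, 2, 6), (5, 15, 15, 19),
       (6, 2, 2, 4), (7, 2, 2, 3), (8, 3, 3, 1), (9, 3, 3, 19), (10, 3, 3, 22), (11, 3, 3, 25),
       (12, 4, 4, 19), (13, 4, 4, 22), (14, 4, 4, 25), (15, 2, 2, 18), (16, 2, 2, 21),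
       (17, 2, 2, 24), (18, 2, 2, 15), (19, 3, 3, 9), (20, 15, 15, 8), (21, 2, 2, 16),
       (22, 3, 3, 10), (23, 16, 16, 8), (24, 2, 2, 17), (25, 3, 3, 11)])
  ]

/-- Six coordinates whose weights form a basis. -/
def basisCoords : List (Fin 27) := [2, 3, 4, 8, 18, 24]

/-- The inverse of their weight matrix. -/
def basisInv : List (List ℤ) :=
  [[1, 1, 0, 0, 0, 0],
   [1, 0, 0, -1, 0, 0],
   [1, 1, 0, 0, 0, -1],
   [2, 1, 1, 0, 0, -1],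
   [2, 0, 0, -1, 1, 0],
   [1, 0, 0, 0, 0, 0]]

/-- Monomials determining each coordinate from those before. -/
def chain : List (Fin 27 × Fin 27 × Fin 27) :=
  [
    (0, 4, 8), (1, 3, 8), (7, 2, 3), (6, 2, 4), (9, 0, 18), (11, 0, 24), (12, 1, 18), (14, 1, 24),
    (15, 2, 18), (17, 2, 24), (19, 3, 9), (25, 3, 11), (5, 15, 19), (20, 6, 9), (26, 6, 11),
    (13, 9, 17), (16, 9, 14), (10, 12, 17), (22, 18, 26), (23, 18, 25), (21, 19, 26)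
  ]

end CfsgLib.E6Iso
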